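import Mathlib

/-!
Coset enumeration for the `(2,3,5)` triangle group: a group generated by `x, y` acting transitively on
`X` such that `x³`, `y⁵`, `(xy)²` act trivially and `y` fixes a point has at most twelve points.
-/

set_option autoImplicit false

namespace Cfsg.Agent.H352.Icos

/-- A finite set invariant under generators of a group acting transitively is everything. -/
theorem univ_of_closed {G X : Type*} [Group G] [MulAction G X] [MulAction.IsPretransitive G X]
    (T : Set G) (hT : Subgroup.closure T = ⊤) (S : Finset X) (hne : S.Nonempty)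
    (hS : ∀ g ∈ T, ∀ p ∈ S, g • p ∈ S) : ∀ p : X, p ∈ S := by
  classical
  have key : ∀ g ∈ Subgroup.closure T, ∀ p, g • p ∈ S ↔ p ∈ S := by
    intro g hg
    induction hg using Subgroup.closure_induction with
    | mem g hg =>
      have h1 : S.image (fun p => g • p) = S := by
        apply Finset.eq_of_subset_of_card_le
        · intro q hq
          obtain ⟨p, hp, rfl⟩ := Finset.mem_image.1 hq
          exact hS g hg p hp
        · rw [Finset.card_image_of_injective _ (MulAction.injective g)]
      intro p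
      constructor
      · intro h
        rw [← h1] at h
        obtain ⟨q, hq, hqp⟩ := Finset.mem_image.1 h
        exact (MulAction.injective g hqp) ▸ hq
      · exact hS g hg p
    | one => intro p; rw [one_smul]
    | mul a b _ _ ha hb => intro p; rw [mul_smul, ha, hb]
    | inv a _ ha => intro p; rw [← ha (a⁻¹ • p), smul_inv_smul]
  intro p
  obtain ⟨q, hq⟩ := hne
  obtain ⟨g, rfl⟩ := MulAction.exists_smul_eq G q p
  exact (key g (by rw [hT]; trivial) q).2 hq

/-- The coset enumeration. -/
theorem card_le_twelve {G X : Type*} [Group G] [MulAction G X] [MulAction.IsPretransitive G X]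
    (x y : G) (hgen : Subgroup.closure ({x, y} : Set G) = ⊤)
    (hx : ∀ p : X, x • x • x • p = p) (hy : ∀ p : X, y • y • y • y • y • p = p)
    (hxy : ∀ p : X, x • y • x • y • p = p) (p₀ : X) (h₀ : y • p₀ = p₀) :
    Finite X ∧ Nat.card X ≤ 12 := by
  classical
  have hxi : ∀ a b : X, x • a = x • b → a = b := fun a b h => MulAction.injective x h
  have hyi : ∀ a b : X, y • a = y • b → a = b := fun a b h => MulAction.injective y h
  -- `y x y = x⁻¹ = x x`
  have hyxy : ∀ p : X, y • x • y • p = x • x • p := by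
    intro p
    apply hxi
    rw [hxy, hx]
  obtain ⟨p1, e1⟩ : ∃ p, x • p₀ = p := ⟨_, rfl⟩
  obtain ⟨p2, e2⟩ : ∃ p, x • p1 = p := ⟨_, rfl⟩
  have e3 : x • p2 = p₀ := by rw [← e2, ← e1, hx]
  have e4 : y • p1 = p2 := by
    have := hyxy p₀
    rwa [h₀, e1, e2] at this
  obtain ⟨p3, e5⟩ : ∃ p, y • p2 = p := ⟨_, rfl⟩
  obtain ⟨p4, e6⟩ : ∃ p, y • p3 = p := ⟨_, rfl⟩
  obtain ⟨p5, e7⟩ : ∃ p, y • p4 = p := ⟨_, rfl⟩
  have e8 : y • p5 = p1 := by rw [← e7, ← e6, ← e5, ← e4, hy]
  have e9 : x • p3 = p5 := by
    have := hyxy p2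
    rw [e5, e3, e1, ← e8] at this
    exact hyi _ _ this
  obtain ⟨p6, e10⟩ : ∃ p, x • p5 = p := ⟨_, rfl⟩
  have e11 : x • p6 = p3 := by rw [← e10, ← e9, hx]
  obtain ⟨p7, e12⟩ : ∃ p, y • p6 = p := ⟨_, rfl⟩
  obtain ⟨p8, e13⟩ : ∃ p, x • p4 = p := ⟨_, rfl⟩
  have e14 : y • p8 = p6 := by
    have := hyxy p3
    rwa [e6, e13, e9, e10] at this
  have e15 : x • p8 = p7 := by
    have := hyxy p4
    rw [e7, e10, e12, e13] at this
    exact this.symm
  have e16 : x • p7 = p4 := by rw [← e15, ← e13, hx]
  obtain ⟨p9, e17⟩ : ∃ p, y • p7 = p := ⟨_, rfl⟩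
  obtain ⟨p10, e18⟩ : ∃ p, y • p9 = p := ⟨_, rfl⟩
  have e19 : y • p10 = p8 := by
    apply hyi
    rw [e14, ← e18, ← e17, ← e12]
    exact hy p6
  have e20 : x • p9 = p10 := by
    have := hyxy p7
    rw [e17, e16, e13, ← e19] at this
    exact hyi _ _ this
  obtain ⟨p11, e21⟩ : ∃ p, x • p10 = p := ⟨_, rfl⟩
  have e22 : x • p11 = p9 := by rw [← e21, ← e20, hx]
  have e23 : y • p11 = p11 := by
    have := hyxy p9
    rwa [e18, e21, e20, e21] at this
  let S : Finset X := [p₀, p1, p2, p3, p4, p5, p6, p7, p8, p9, p10, p11].toFinset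
  have hS : ∀ g ∈ ({x, y} : Set G), ∀ p ∈ S, g • p ∈ S := by
    intro g hg p hp
    simp only [S, List.mem_toFinset, List.mem_cons, List.not_mem_nil, or_false] at hp
    rcases hg with rfl | hg
    · rcases hp with rfl | rfl | rfl | rfl | rfl | rfl | rfl | rfl | rfl | rfl | rfl | rfl <;>
        simp only [S, List.mem_toFinset, List.mem_cons, List.not_mem_nil, or_false, e1, e2, e3, e9, e10, e11, e13, e15,
          e16, e20, e21, e22, true_or, or_true]
    · rw [Set.mem_singleton_iff] at hg
      subst hg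
      rcases hp with rfl | rfl | rfl | rfl | rfl | rfl | rfl | rfl | rfl | rfl | rfl | rfl <;>
        simp only [S, List.mem_toFinset, List.mem_cons, List.not_mem_nil, or_false, h₀, e4, e5, e6, e7, e8, e12, e14,
          e17, e18, e19, e23, true_or, or_true]
  have huniv := univ_of_closed (G := G) ({x, y} : Set G) hgen S ⟨p₀, by simp [S]⟩ hS
  have : Finite X := by
    apply Finite.of_injective (fun p : X => (⟨p, huniv p⟩ : S))
    intro a b hab
    exact congrArg Subtype.val hab
  refine ⟨this, ?_⟩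
  have h1 : Nat.card X ≤ Nat.card S :=
    Nat.card_le_card_of_injective (fun p : X => (⟨p, huniv p⟩ : S))
      (fun a b hab => congrArg Subtype.val hab)
  have h2 : Nat.card S = S.card := by simp
  rw [h2] at h1
  exact h1.trans (List.toFinset_card_le _)

end Cfsg.Agent.H352.Icos
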