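import Mathlib
import Cfsg.Agent.H352.Icos

/-!
A group generated by `x, y` with `x³ = y⁵ = 1`, `(xy)² = z` central of order dividing `2` has order at
most `60 |z|`.
-/

set_option autoImplicit false

namespace Cfsg.Agent.H352.IcosCard

open scoped Pointwise

theorem finite_card_le {G : Type*} [Group G] (x y z : G)
    (hgen : Subgroup.closure ({x, y} : Set G) = ⊤)
    (hx : x ^ 3 = 1) (hy : y ^ 5 = 1) (hz : z ^ 2 = 1) (hzc : ∀ g, z * g = g * z)
    (hxy : (x * y) ^ 2 = z) : Finite G ∧ Nat.card G ≤ 60 * Nat.card (Subgroup.zpowers z) := by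
  have hZn : (Subgroup.zpowers z).Normal := by
    constructor
    intro n hn g
    have : g * n * g⁻¹ = n := by
      obtain ⟨k, rfl⟩ := Subgroup.mem_zpowers_iff.1 hn
      have hc : Commute z g := hzc g
      have hc2 : Commute (z ^ k) g := hc.zpow_left k
      rw [← hc2.eq]
      group
    rw [this]; exact hn
  set Y := Subgroup.zpowers y with hY
  set Z := Subgroup.zpowers z with hZ
  set H : Subgroup G := Y ⊔ Z with hH
  have hYf : Finite Y := by
    rw [hY]
    exact (finite_zpowers.2 (isOfFinOrder_iff_pow_eq_one.2 ⟨5, by norm_num, hy⟩)).to_subtype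
  have hZf : Finite Z := by
    rw [hZ]
    exact (finite_zpowers.2 (isOfFinOrder_iff_pow_eq_one.2 ⟨2, by norm_num, hz⟩)).to_subtype
  have hHc : (H : Set G) = (Y : Set G) * (Z : Set G) := Subgroup.mul_normal Y Z
  have hHf : Finite H := by
    have h1 : ((Y : Set G) * (Z : Set G)).Finite :=
      Set.Finite.mul (Set.toFinite _) (Set.toFinite _)
    rw [← hHc] at h1
    exact h1.to_subtype
  have hY5 : Nat.card Y ≤ 5 := by
    rw [hY, Nat.card_zpowers]
    exact orderOf_le_of_pow_eq_one (by norm_num) hy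
  have hHcard : Nat.card H ≤ 5 * Nat.card Z := by
    have h1 : Nat.card H = Nat.card ((Y : Set G) * (Z : Set G) : Set G) := by
      rw [← hHc]; rfl
    rw [h1]
    refine (Set.natCard_mul_le).trans ?_
    exact Nat.mul_le_mul_right _ hY5
  have hact : ∀ g, g ∈ H → (g • ((1 : G) : G ⧸ H) = ((1 : G) : G ⧸ H)) := by
    intro g hg
    show ((g * 1 : G) : G ⧸ H) = ((1 : G) : G ⧸ H)
    rw [QuotientGroup.eq]
    simpa using hg
  have hzt : ∀ p : G ⧸ H, z • p = p := by
    intro p
    induction p using QuotientGroup.induction_on with | _ p => ?_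
    show ((z * p : G) : G ⧸ H) = (p : G ⧸ H)
    rw [QuotientGroup.eq, hzc p, mul_inv_rev, mul_assoc, inv_mul_cancel, mul_one]
    exact H.inv_mem ((le_sup_right : Z ≤ H) (Subgroup.mem_zpowers z))
  obtain ⟨hf, hc⟩ := Icos.card_le_twelve (X := G ⧸ H) x y hgen
    (fun p => by
      rw [smul_smul, smul_smul, show x * x * x = x ^ 3 by simp only [pow_succ, pow_zero, one_mul], hx, one_smul])
    (fun p => by
      rw [smul_smul, smul_smul, smul_smul, smul_smul,
        show y * y * y * y * y = y ^ 5 by simp only [pow_succ, pow_zero, one_mul], hy, one_smul])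
    (fun p => by
      rw [smul_smul, smul_smul, smul_smul, show x * y * x * y = (x * y) ^ 2 by simp only [pow_two, mul_assoc], hxy, hzt])
    ((1 : G) : G ⧸ H) (hact y ((le_sup_left : Y ≤ H) (Subgroup.mem_zpowers y)))
  have hGf : Finite G := by
    have : Finite ((G ⧸ H) × H) := inferInstance
    exact Finite.of_equiv _ (Subgroup.groupEquivQuotientProdSubgroup (s := H)).symm
  refine ⟨hGf, ?_⟩
  rw [Subgroup.card_eq_card_quotient_mul_card_subgroup H]
  calc Nat.card (G ⧸ H) * Nat.card H ≤ 12 * (5 * Nat.card Z) := Nat.mul_le_mul hc hHcard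
    _ = 60 * Nat.card Z := by ring

end Cfsg.Agent.H352.IcosCard
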