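import Cfsg.Agent.H209.Five.Defs

/-!
# S3568, section W: the transfer lemma `lemmaW` (helper352)
-/

set_option autoImplicit false

open Pointwise

namespace Cfsg.Agent.H352.Five

open Cfsg.Agent.H399 Cfsg.Agent.H209.Five

/-- two `p`-subgroups of `C`: the second is conjugate in `C` into a `p`-subgroup of `C` containing the first -/
theorem exists_syl {H : Type*} [Group H] [Finite H] {p : ℕ} [Fact p.Prime] {C T T₂ : Subgroup H} (hT : IsPGroup p T)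
    (hT₂ : IsPGroup p T₂) (h₁ : T ≤ C) (h₂ : T₂ ≤ C) :
    ∃ Y : Subgroup H, IsPGroup p Y ∧ Y ≤ C ∧ T ≤ Y ∧ ∃ c ∈ C, cj c T₂ ≤ Y := by
  have hS : IsPGroup p (T.subgroupOf C) := hT.comap_of_injective _ C.subtype_injective
  have hS₂ : IsPGroup p (T₂.subgroupOf C) := hT₂.comap_of_injective _ C.subtype_injective
  obtain ⟨S, hS⟩ := hS.exists_le_sylow
  obtain ⟨S₂, hS₂⟩ := hS₂.exists_le_sylow
  obtain ⟨c, hc⟩ := MulAction.exists_smul_eq C S₂ S
  refine ⟨(S : Subgroup C).map C.subtype, S.2.map _, Subgroup.map_subtype_le _, ?_, c, c.2, ?_⟩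
  · intro t ht
    exact ⟨⟨t, h₁ ht⟩, hS (Subgroup.mem_subgroupOf.2 ht), rfl⟩
  · intro t ht
    rw [mem_cj] at ht
    have h3 : (⟨(c : H)⁻¹ * t * c, h₂ ht⟩ : C) ∈ (S₂ : Subgroup C) := hS₂ (Subgroup.mem_subgroupOf.2 ht)
    have h4 : c * (⟨(c : H)⁻¹ * t * c, h₂ ht⟩ : C) * c⁻¹ ∈ (S : Subgroup C) := by
      rw [← hc, Sylow.coe_subgroup_smul, Subgroup.mem_pointwise_smul_iff_inv_smul_mem, ← map_inv, MulAut.smul_def,
        MulAut.conj_apply]
      have h5 : c⁻¹ * (c * (⟨(c : H)⁻¹ * t * c, h₂ ht⟩ : C) * c⁻¹) * c⁻¹⁻¹ = ⟨(c : H)⁻¹ * t * c, h₂ ht⟩ := by group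
      rw [h5]
      exact h3
    refine ⟨_, h4, ?_⟩
    simp [mul_assoc]

theorem le_cj_sylow {H : Type*} [Group H] [Finite H] {p : ℕ} [Fact p.Prime] (P : Sylow p H) {Y : Subgroup H}
    (hY : IsPGroup p Y) : ∃ k : H, Y ≤ cj k P := by
  obtain ⟨Q, hQ⟩ := hY.exists_le_sylow
  obtain ⟨k, hk⟩ := MulAction.exists_smul_eq H P Q
  refine ⟨k, ?_⟩
  rw [← hk, Sylow.coe_subgroup_smul] at hQ
  exact hQ

/-- conjugation of Sylow subgroups within a subgroup -/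
theorem syl_conj_in {H : Type*} [Group H] [Finite H] {p : ℕ} [Fact p.Prime] (P : Sylow p H) {C : Subgroup H}
    (hP : (P : Subgroup H) ≤ C) {k : H} (hk : cj k P ≤ C) : ∃ c ∈ C, cj (c * k) (P : Subgroup H) = P := by
  obtain ⟨Y, hY, -, hPY, c, hc, hc2⟩ := exists_syl (C := C) P.2 (isPGroup_cj k P.2) hP hk
  refine ⟨c, hc, ?_⟩
  have h1 : Y = P := P.3 hY hPY
  rw [h1, ← cj_mul] at hc2
  apply Subgroup.eq_of_le_of_card_ge hc2
  rw [card_cj]

theorem lemmaW {H : Type*} [Group H] [Finite H] (P : Sylow 2 H) (T Δ : Subgroup H) (u : H)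
    (hTP : T ≤ P) (hTc : ∀ x ∈ T, ∀ y ∈ T, x * y = y * x) (hTs : ∀ x ∈ T, x * x = 1)
    (hu : u ∈ P) (huT : u ∉ T) (hu2 : u * u = 1) (hP : ∀ x ∈ P, x ∈ T ∨ x * u ∈ T)
    (hΔ : ∀ x, x ∈ Δ ↔ x ∈ T ∧ u * x = x * u)
    (hwc : ∀ g : H, cj g T ≤ P → cj g T = T)
    (hN : Nm T ⊓ Subgroup.centralizer (Δ : Set H) ≤ P)
    (h : H) (h1 : h * u * h⁻¹ ∈ T) (h2 : cj h Δ ≤ T) : False := by
  have : Fact (Nat.Prime 2) := ⟨Nat.prime_two⟩
  have hTp : IsPGroup 2 T := P.2.to_le hTP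
  -- step 1: `h` may be replaced by an element centralising `Δ`
  obtain ⟨Y, hY, -, hTY, c, hc, hcY⟩ := exists_syl (C := Subgroup.centralizer ((cj h Δ : Subgroup H) : Set H)) hTp
    (isPGroup_cj h hTp) (by
      intro t ht
      rw [Subgroup.mem_centralizer_iff]
      intro d hd
      exact hTc _ (h2 hd) _ ht) (by
      intro t ht
      rw [Subgroup.mem_centralizer_iff]
      intro d hd
      rw [SetLike.mem_coe, mem_cj] at hd
      rw [mem_cj] at ht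
      have h3 := hTc _ ((hΔ _).1 hd).1 _ ht
      have h4 : h * ((h⁻¹ * d * h) * (h⁻¹ * t * h)) * h⁻¹ = h * ((h⁻¹ * t * h) * (h⁻¹ * d * h)) * h⁻¹ := by rw [h3]
      simpa [mul_assoc] using h4)
  obtain ⟨k, hk⟩ := le_cj_sylow P hY
  have hk1 : cj k⁻¹ T = T := by
    apply hwc
    rw [← cj_le_cj (x := k), cj_cj_inv]
    exact hTY.trans hk
  have hk2 : cj (k⁻¹ * (c * h)) T = T := by
    apply hwc
    rw [cj_mul, ← cj_le_cj (x := k), cj_cj_inv, cj_mul]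
    exact hcY.trans hk
  have hk3 : cj (c * h) T = T := by
    rw [cj_mul, cj_eq_iff, inv_inv] at hk2
    rw [hk2]
    rw [cj_eq_iff, inv_inv] at hk1
    exact hk1.symm
  have hn : c * h ∈ Nm T := mem_Nm.2 hk3
  have hn' : (c * h)⁻¹ ∈ Nm T := (Nm T).inv_mem hn
  rw [Subgroup.mem_centralizer_iff] at hc
  set n := c * h with hndef
  -- `h' = n⁻¹ h`
  have hnd : ∀ d ∈ Δ, n⁻¹ * (h * d * h⁻¹) * n = d := by
    intro d hd
    have h3 := hc (h * d * h⁻¹) (conj_mem_cj.2 hd)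
    have h4 : n⁻¹ * (h * d * h⁻¹) * n = h⁻¹ * (c⁻¹ * ((h * d * h⁻¹) * c)) * h := by rw [hndef]; group
    rw [h4, h3]
    group
  have hcen : n⁻¹ * h ∈ Subgroup.centralizer (Δ : Set H) := by
    rw [Subgroup.mem_centralizer_iff]
    intro d hd
    have h3 := hnd d hd
    calc d * (n⁻¹ * h) = (n⁻¹ * (h * d * h⁻¹) * n) * (n⁻¹ * h) := by rw [h3]
      _ = n⁻¹ * h * d := by group
  have hu' : (n⁻¹ * h) * u * (n⁻¹ * h)⁻¹ ∈ T := by
    have h3 : (n⁻¹ * h) * u * (n⁻¹ * h)⁻¹ = n⁻¹ * (h * u * h⁻¹) * n⁻¹⁻¹ := by group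
    rw [h3]
    have h4 : n⁻¹ * (h * u * h⁻¹) * n⁻¹⁻¹ ∈ cj n⁻¹ T := conj_mem_cj.2 h1
    rwa [cj_of_mem_Nm hn'] at h4
  set y := n⁻¹ * h with hydef
  -- commutators
  have hui : u⁻¹ = u := inv_eq_of_mul_eq_one_left hu2
  have huN : cj u T = T := by
    apply hwc
    intro t ht
    rw [mem_cj] at ht
    have h3 : u * (u⁻¹ * t * u) * u⁻¹ ∈ (P : Subgroup H) :=
      (P : Subgroup H).mul_mem ((P : Subgroup H).mul_mem hu (hTP ht)) ((P : Subgroup H).inv_mem hu)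
    simpa [mul_assoc] using h3
  have huT' : ∀ t ∈ T, u * t * u ∈ T := by
    intro t ht
    have h3 : u * t * u⁻¹ ∈ cj u T := conj_mem_cj.2 ht
    rwa [huN, hui] at h3
  have hcomm : ∀ t ∈ T, u * t * u * t⁻¹ ∈ Δ := by
    intro t ht
    rw [hΔ]
    have hti : t⁻¹ = t := inv_eq_of_mul_eq_one_left (hTs t ht)
    refine ⟨T.mul_mem (huT' t ht) (T.inv_mem ht), ?_⟩
    rw [hti]
    have h3 := hTc _ (huT' t ht) t ht
    calc u * (u * t * u * t) = (u * u) * t * u * t := by group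
      _ = t * u * t := by rw [hu2, one_mul]
      _ = (t * (u * t * u)) * u := by
        have : (t * (u * t * u)) * u = t * u * t * (u * u) := by group
        rw [this, hu2, mul_one]
      _ = u * t * u * t * u := by rw [← h3]
  -- the centraliser of `u'' = y u y⁻¹` modulo `Δ`
  set w := y * u * y⁻¹ with hwdef
  have hcen' : ∀ a ∈ Subgroup.centralizer (Δ : Set H), ∀ d ∈ Δ, a * d * a⁻¹ = d := by
    intro a ha d hd
    rw [Subgroup.mem_centralizer_iff] at ha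
    rw [← ha d hd]
    group
  let C : Subgroup H :=
    { carrier := {a | a ∈ Subgroup.centralizer (Δ : Set H) ∧ a * w * a⁻¹ * w⁻¹ ∈ Δ}
      mul_mem' := by
        rintro a b ⟨ha1, ha2⟩ ⟨hb1, hb2⟩
        refine ⟨Subgroup.mul_mem _ ha1 hb1, ?_⟩
        have h3 : a * b * w * (a * b)⁻¹ * w⁻¹ = (a * (b * w * b⁻¹ * w⁻¹) * a⁻¹) * (a * w * a⁻¹ * w⁻¹) := by group
        rw [h3, hcen' a ha1 _ hb2]
        exact Δ.mul_mem hb2 ha2
      one_mem' := by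
        refine ⟨Subgroup.one_mem _, ?_⟩
        simp
      inv_mem' := by
        rintro a ⟨ha1, ha2⟩
        refine ⟨Subgroup.inv_mem _ ha1, ?_⟩
        have h3 : a⁻¹ * w * a⁻¹⁻¹ * w⁻¹ = (a⁻¹ * (a * w * a⁻¹ * w⁻¹) * a⁻¹⁻¹)⁻¹ := by group
        rw [h3, hcen' _ (Subgroup.inv_mem _ ha1) _ ha2]
        exact Δ.inv_mem ha2 }
  have hTcen : ∀ t ∈ T, t ∈ Subgroup.centralizer (Δ : Set H) := by
    intro t ht
    rw [Subgroup.mem_centralizer_iff]
    intro d hd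
    exact hTc _ ((hΔ _).1 hd).1 _ ht
  have hucen : u ∈ Subgroup.centralizer (Δ : Set H) := by
    rw [Subgroup.mem_centralizer_iff]
    intro d hd
    exact ((hΔ _).1 hd).2.symm
  have hPcases : ∀ x ∈ P, x ∈ T ∨ ∃ t ∈ T, x = t * u := by
    intro x hx
    rcases hP x hx with h3 | h3
    · exact Or.inl h3
    · right
      refine ⟨x * u, h3, ?_⟩
      rw [mul_assoc, hu2, mul_one]
  have hPcen : ∀ x ∈ P, x ∈ Subgroup.centralizer (Δ : Set H) := by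
    intro x hx
    rcases hPcases x hx with h3 | ⟨t, ht, rfl⟩
    · exact hTcen x h3
    · exact Subgroup.mul_mem _ (hTcen t ht) hucen
  have hPC : (P : Subgroup H) ≤ C := by
    intro x hx
    refine ⟨hPcen x hx, ?_⟩
    rcases hPcases x hx with h3 | ⟨t, ht, rfl⟩
    · have h4 := hTc x h3 w hu'
      rw [h4]
      simp
    · have h4 : t * u * w * (t * u)⁻¹ * w⁻¹ = t * (u * w * u) * t⁻¹ * w⁻¹ := by
        rw [mul_inv_rev, hui]; group
      rw [h4, hTc t ht _ (huT' w hu'), mul_inv_cancel_right]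
      exact hcomm w hu'
  have hyPC : cj y P ≤ C := by
    intro x hx
    rw [mem_cj] at hx
    obtain ⟨r, hr, hxr⟩ : ∃ r ∈ P, x = y * r * y⁻¹ := ⟨_, hx, by group⟩
    rw [hxr]
    refine ⟨Subgroup.mul_mem _ (Subgroup.mul_mem _ hcen (hPcen r hr)) (Subgroup.inv_mem _ hcen), ?_⟩
    have h3 : y * r * y⁻¹ * w * (y * r * y⁻¹)⁻¹ * w⁻¹ = y * (r * u * r⁻¹ * u⁻¹) * y⁻¹ := by rw [hwdef]; group
    rw [h3]
    have h5 : ∀ t ∈ T, t * u * t⁻¹ * u⁻¹ ∈ Δ := by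
      intro t ht
      have h6 := Δ.inv_mem (hcomm t ht)
      have h7 : (u * t * u * t⁻¹)⁻¹ = t * u * t⁻¹ * u⁻¹ := by
        rw [mul_inv_rev, mul_inv_rev, mul_inv_rev, hui]; group
      rwa [h7] at h6
    have h4 : r * u * r⁻¹ * u⁻¹ ∈ Δ := by
      rcases hPcases r hr with h5' | ⟨t, ht, rfl⟩
      · exact h5 r h5'
      · have h6 : t * u * u * (t * u)⁻¹ * u⁻¹ = t * u * t⁻¹ * u⁻¹ := by
          rw [mul_inv_rev]; group
        rw [h6]
        exact h5 t ht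
    rw [hcen' y hcen _ h4]
    exact h4
  obtain ⟨b, ⟨hb1, hb2⟩, hb3⟩ := syl_conj_in P hPC hyPC
  -- `b * y` normalises `P`, hence lies in `P`
  have hby : b * y ∈ P := by
    apply hN
    refine ⟨mem_Nm.2 ?_, Subgroup.mul_mem _ hb1 hcen⟩
    apply hwc
    rw [← hb3, cj_le_cj]
    exact hTP
  -- conclusion
  have h3 : (b * y) * u * (b * y)⁻¹ = b * w * b⁻¹ := by rw [hwdef]; group
  have h4 : b * w * b⁻¹ ∈ T := by
    have h5 := T.mul_mem ((hΔ _).1 hb2).1 hu'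
    have h6 : b * w * b⁻¹ * w⁻¹ * w = b * w * b⁻¹ := by group
    rwa [h6] at h5
  rw [← h3] at h4
  apply huT
  have h5 : (b * y)⁻¹ ∈ P := (P : Subgroup H).inv_mem hby
  have hPN : ∀ x ∈ P, cj x T = T := by
    intro x hx
    apply hwc
    rw [← cj_of_mem (X := (P : Subgroup H)) hx, cj_le_cj]
    exact hTP
  have h6 : (b * y)⁻¹ * ((b * y) * u * (b * y)⁻¹) * (b * y)⁻¹⁻¹ ∈ cj (b * y)⁻¹ T := conj_mem_cj.2 h4
  rw [hPN _ h5] at h6
  have h7 : (b * y)⁻¹ * ((b * y) * u * (b * y)⁻¹) * (b * y)⁻¹⁻¹ = u := by group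
  rwa [h7] at h6

end Cfsg.Agent.H352.Five
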