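import Cfsg.Agent.H404.Avg.Good
import Cfsg.Agent.H933.SubPSp
import Cfsg.Agent.H934.OutCl
import Cfsg.Agent.S2600
import Cfsg.Agent.S2602
import Cfsg.Agent.S2603
import Cfsg.Agent.S2604
import Cfsg.Agent.S2605
import Cfsg.Agent.S2606

/-!
# Cyclic subgroups of small index of `Out S`, classical groups (helper352, for S4831)
-/

set_option autoImplicit false

universe u

namespace Cfsg.Agent.H352.OutIdx

open Cfsg Cfsg.Agent.H404.Avg

theorem of_out {S : Type u} [Group S] {c : ℕ} (x : Cfsg.Out S) (h : (Subgroup.zpowers x).index ≤ c) : OutIdx S c := by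
  obtain ⟨g, rfl⟩ := QuotientGroup.mk'_surjective _ x
  refine ⟨g, ?_⟩
  have h1 := Subgroup.index_comap_of_surjective (Subgroup.zpowers (QuotientGroup.mk' (Cfsg.Inn S) g))
    (QuotientGroup.mk'_surjective (Cfsg.Inn S))
  have h2 : (Subgroup.zpowers (QuotientGroup.mk' (Cfsg.Inn S) g)).comap (QuotientGroup.mk' (Cfsg.Inn S)) =
      (MulAut.conj : S →* MulAut S).range ⊔ Subgroup.zpowers g := by
    rw [← MonoidHom.map_zpowers, Subgroup.comap_map_eq, QuotientGroup.ker_mk', sup_comm]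
  rw [← h2, h1]
  exact h

theorem of_hom {S : Type u} [Group S] [Finite S] {c : ℕ} {C : Type*} [Group C] [Finite C] (hC : IsCyclic C)
    (φ : Cfsg.Out S →* C) (hφ : Function.Surjective φ) (hk : Nat.card φ.ker ≤ c) : OutIdx S c := by
  obtain ⟨y, hy⟩ := hC.exists_generator
  obtain ⟨x, rfl⟩ := hφ y
  apply of_out x
  have h1 : orderOf (φ x) = Nat.card C := orderOf_eq_card_of_forall_mem_zpowers hy
  have h2 : Nat.card C ≤ orderOf x := by
    rw [← h1]
    exact Nat.le_of_dvd (orderOf_pos x) (orderOf_map_dvd φ x)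
  have h3 : Nat.card (Cfsg.Out S) = Nat.card φ.ker * Nat.card C := by
    rw [Subgroup.card_eq_card_quotient_mul_card_subgroup φ.ker, mul_comm]
    congr 1
    exact Nat.card_congr (QuotientGroup.quotientKerEquivOfSurjective φ hφ).toEquiv
  have h4 := Subgroup.card_mul_index (Subgroup.zpowers x)
  rw [Nat.card_zpowers, h3] at h4
  refine le_trans ?_ hk
  apply Nat.le_of_mul_le_mul_right _ (Nat.card_pos (α := C))
  rw [← h4, mul_comm]
  exact Nat.mul_le_mul_right _ h2

theorem of_card {S : Type u} [Group S] [Finite S] {c f : ℕ} (hf : 0 < f) (x : Cfsg.Out S) (hx : f ∣ orderOf x)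
    (h : Nat.card (Cfsg.Out S) ≤ c * f) : OutIdx S c := by
  apply of_out x
  have h2 : f ≤ orderOf x := Nat.le_of_dvd (orderOf_pos x) hx
  have h4 := Subgroup.card_mul_index (Subgroup.zpowers x)
  rw [Nat.card_zpowers] at h4
  apply Nat.le_of_mul_le_mul_right _ hf
  rw [mul_comm]
  calc f * (Subgroup.zpowers x).index ≤ orderOf x * (Subgroup.zpowers x).index := Nat.mul_le_mul_right _ h2
    _ = _ := h4
    _ ≤ c * f := h

theorem of_cyclic {S : Type u} [Group S] [Finite S] (h : IsCyclic (Cfsg.Out S)) : OutIdx S 1 := by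
  refine of_hom h (MonoidHom.id _) (fun x => ⟨x, rfl⟩) ?_
  rw [MonoidHom.ker_id, Subgroup.card_bot]

theorem mono {S : Type u} [Group S] {c d : ℕ} (h : OutIdx S c) (hcd : c ≤ d) : OutIdx S d := by
  obtain ⟨g, hg⟩ := h
  exact ⟨g, hg.trans hcd⟩

instance cyclic_zmod (n : ℕ) : IsCyclic (Multiplicative (ZMod n)) := inferInstance

/-- `PSL_2(q)` -/
theorem idx_psl_two {F : Type u} [Field F] [Fintype F] (h4 : 4 ≤ Fintype.card F) :
    OutIdx (Matrix.ProjectiveSpecialLinearGroup (Fin 2) F) 2 := by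
  obtain ⟨p, f, hp, hf, hF⟩ := H934.OutCl.exists_pf F
  have := Fact.mk hp
  have : NeZero f := ⟨by omega⟩
  obtain ⟨φ, h1, -, h3⟩ := S2602.result (F := F) hf hF (by rw [← hF]; exact h4)
  exact of_hom inferInstance φ h1 (by rw [h3]; exact Nat.gcd_le_left _ (by norm_num))

/-- `PSU_3(q)` -/
theorem idx_psu_three {F : Type u} [Field F] [Fintype F] {q : ℕ} (hF : Fintype.card F = q ^ 2) (hq : 2 < q) :
    OutIdx (Cfsg.PSU 3 F q) 3 := by
  obtain ⟨p, f', hp, hf', hF'⟩ := H934.OutCl.exists_pf F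
  have := Fact.mk hp
  obtain ⟨f, -, hqf⟩ : ∃ f ≤ f', q = p ^ f := (Nat.dvd_prime_pow hp).1 (by
    rw [← hF', hF]; exact dvd_pow_self q (by norm_num))
  have hf : 1 ≤ f := by
    by_contra h0
    have : f = 0 := by omega
    subst this
    rw [pow_zero] at hqf
    omega
  have : NeZero (2 * f) := ⟨by omega⟩
  obtain ⟨φ, h1, -, h3⟩ := S2603.result (K := F) hf hqf hF (le_refl 3) (by omega)
  exact of_hom inferInstance φ h1 (by rw [h3]; exact Nat.gcd_le_left _ (by norm_num))

/-- a product with a cyclic group -/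
theorem of_prod {S : Type u} [Group S] [Finite S] {c n : ℕ} [NeZero c] [NeZero n]
    (e : Cfsg.Out S ≃* Multiplicative (ZMod c × ZMod n)) : OutIdx S c := by
  let φ : Cfsg.Out S →* Multiplicative (ZMod n) :=
    (AddMonoidHom.toMultiplicative (AddMonoidHom.snd (ZMod c) (ZMod n))).comp e.toMonoidHom
  have hφ : Function.Surjective φ := by
    intro y
    refine ⟨e.symm (Multiplicative.ofAdd (0, Multiplicative.toAdd y)), ?_⟩
    show AddMonoidHom.toMultiplicative (AddMonoidHom.snd (ZMod c) (ZMod n)) (e (e.symm _)) = y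
    rw [e.apply_symm_apply]
    rfl
  refine of_hom inferInstance φ hφ ?_
  have h1 : Nat.card (Cfsg.Out S) = Nat.card φ.ker * Nat.card (Multiplicative (ZMod n)) := by
    rw [Subgroup.card_eq_card_quotient_mul_card_subgroup φ.ker, mul_comm]
    congr 1
    exact Nat.card_congr (QuotientGroup.quotientKerEquivOfSurjective φ hφ).toEquiv
  have h2 : Nat.card (Cfsg.Out S) = c * n := by
    rw [Nat.card_congr e.toEquiv, Nat.card_congr Multiplicative.toAdd, Nat.card_prod, Nat.card_zmod, Nat.card_zmod]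
  have h3 : Nat.card (Multiplicative (ZMod n)) = n := by
    rw [Nat.card_congr Multiplicative.toAdd, Nat.card_zmod]
  rw [h2, h3] at h1
  exact (Nat.eq_of_mul_eq_mul_right (Nat.pos_of_ne_zero (NeZero.ne n)) h1).ge

/-- `PΩ_{2m+1}(q)` -/
theorem idx_omega_odd {F : Type u} [Field F] [Fintype F] {m : ℕ} (hm : 3 ≤ m) (hodd : Odd (Fintype.card F)) :
    OutIdx (Cfsg.POmega F (Cfsg.quadFormOdd m F)) 2 := by
  obtain ⟨p, f, hp, hf, hF⟩ := H934.OutCl.exists_pf F
  have := Fact.mk hp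
  have : NeZero f := ⟨by omega⟩
  have hp2 : p ≠ 2 := by
    rintro rfl
    rw [hF] at hodd
    exact (Nat.not_even_iff_odd.2 hodd) (Nat.even_pow.2 ⟨even_two, by omega⟩)
  obtain ⟨e⟩ := S2604.result (F := F) hf hF hp2 hm
  have : Finite (Cfsg.isometryGroup F (Cfsg.quadFormOdd m F)) := inferInstance
  have : Finite (Cfsg.POmega F (Cfsg.quadFormOdd m F)) := inferInstance
  exact of_prod e

/-- `PΩ⁻_{2m}(q)` -/
theorem idx_omega_minus {F : Type u} [Field F] [Fintype F] {m : ℕ} (hm : 4 ≤ m) (a b : F)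
    (hab : ∀ z₁ z₂ : F, z₁ ^ 2 + a * z₁ * z₂ + b * z₂ ^ 2 = 0 → z₁ = 0 ∧ z₂ = 0) :
    OutIdx (Cfsg.POmega F (Cfsg.quadFormMinus (m - 1) F a b)) 2 := by
  obtain ⟨p, f, hp, hf, hF⟩ := H934.OutCl.exists_pf F
  have := Fact.mk hp
  have : NeZero f := ⟨by omega⟩
  have : NeZero (2 * f) := ⟨by omega⟩
  have : Finite (Cfsg.isometryGroup F (Cfsg.quadFormMinus (m - 1) F a b)) := inferInstance
  have : Finite (Cfsg.POmega F (Cfsg.quadFormMinus (m - 1) F a b)) := inferInstance
  by_cases hp2 : p = 2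
  · subst hp2
    obtain ⟨h1, -⟩ := S2605.result (F := F) hf hF hm a b hab
    exact mono (of_cyclic h1) (by norm_num)
  · have h1 := S2606.result (F := F) hf hF hp2 hm a b hab
    split_ifs at h1 with h2
    · obtain ⟨e⟩ := h1
      have hfo : Odd f := by
        by_contra h3
        rw [Nat.not_odd_iff_even] at h3
        obtain ⟨k, hk⟩ := h3
        have h4 : p ^ f = (p ^ k) * (p ^ k) := by rw [hk, pow_add]
        have h5 : (p ^ k) % 4 = 0 ∨ (p ^ k) % 4 = 1 ∨ (p ^ k) % 4 = 2 ∨ (p ^ k) % 4 = 3 := by omega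
        have h6 := h2.1
        rw [h4, Nat.mul_mod] at h6
        rcases h5 with h5 | h5 | h5 | h5 <;> rw [h5] at h6 <;> omega
      let x : Cfsg.Out (Cfsg.POmega F (Cfsg.quadFormMinus (m - 1) F a b)) :=
        e.symm (DihedralGroup.r 1, Multiplicative.ofAdd (1 : ZMod f))
      have hx : orderOf x = 4 * f := by
        show orderOf (e.symm _) = _
        rw [MulEquiv.orderOf_eq, Prod.orderOf_mk, DihedralGroup.orderOf_r_one, orderOf_ofAdd_eq_addOrderOf,
          ZMod.addOrderOf_one]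
        apply Nat.Coprime.lcm_eq_mul
        rw [show (4 : ℕ) = 2 ^ 2 by norm_num]
        exact Nat.Coprime.pow_left 2 (Nat.coprime_two_left.2 hfo)
      refine of_card (f := 4 * f) (by omega) x (by rw [hx]) ?_
      have h7 : Nat.card (Cfsg.Out (Cfsg.POmega F (Cfsg.quadFormMinus (m - 1) F a b))) = 2 * 4 * f := by
        rw [Nat.card_congr e.toEquiv, Nat.card_prod, DihedralGroup.nat_card, Nat.card_congr Multiplicative.toAdd,
          Nat.card_zmod]
      rw [h7]
      exact le_of_eq (by ring)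
    · obtain ⟨e⟩ := h1
      exact of_prod e

/-- `PSp_{2m}(q)` -/
theorem idx_psp {F : Type u} [Field F] [Fintype F] {m : ℕ} (hm : 2 ≤ m) (h3 : m = 2 → 3 ≤ Fintype.card F)
    (hs : IsSimpleGroup (Cfsg.PSp m F)) (hna : ¬ IsMulCommutative (Cfsg.PSp m F)) : OutIdx (Cfsg.PSp m F) 2 := by
  obtain ⟨p, f, hp, hf, hF⟩ := H934.OutCl.exists_pf F
  have := Fact.mk hp
  have : Finite (Cfsg.PSp m F) := inferInstance
  by_cases hc : m = 2 ∧ p = 2
  · obtain ⟨rfl, rfl⟩ := hc
    obtain ⟨h6, -⟩ := Cfsg.Agent.S2600.result (F := F) hf hF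
    exact mono (of_cyclic h6) (by norm_num)
  · have hcard := Cfsg.Agent.S0814.result (F := F) p f hf hF m hm (by rw [← hF]; exact h3)
    rw [if_neg hc, one_mul, H933.SubPSp.card_out hs hna] at hcard
    have hcard' : Nat.card (Cfsg.Out (PSp m F)) = Nat.gcd 2 (p ^ f - 1) * f :=
      Nat.eq_of_mul_eq_mul_right Nat.card_pos hcard
    obtain ⟨σ, hσ⟩ := H933.SubField.exists_orderOf hf hF
    obtain ⟨x, hx⟩ := H933.SubPSp.exists_out (F := F) (m := m) (by omega) σ
    rw [hσ] at hx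
    refine of_card (by omega) x hx ?_
    rw [hcard']
    exact Nat.mul_le_mul_right _ (Nat.gcd_le_left _ (by norm_num))

end Cfsg.Agent.H352.OutIdx
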