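import Cfsg.Agent.H301.SY.Spor
import Cfsg.Agent.H964.NoHall.RowsC
import Cfsg.Agent.H729.PairMathieu
import Cfsg.Agent.H670.Palfy.Base

/-!
# S3846: the rows `Co3`, `Co2` (helper352)

`noE_of_range` : a simple group `Q` in `K`, of index prime to `p`.
-/

set_option autoImplicit false
set_option linter.style.haveILetI false

namespace Cfsg.Agent.H352.NoECo

open Cfsg Subgroup Cfsg.Agent.H459.Rad Cfsg.Agent.H301.SY MulAction Cfsg.Agent.H964.NoHall

/-- a simple subgroup of index prime to `p` -/
theorem noE_of_range {Q K : Type*} [Group Q] [Group K] [Finite Q] [Finite K] [IsSimpleGroup Q]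
    (hQ : ¬ Group.IsSolvable Q) (f : Q →* K) (hf : Function.Injective f) (ht : f.range ≠ ⊤) {p : ℕ}
    [hp : Fact p.Prime] (hi : ¬ p ∣ f.range.index) : NoE p K := by
  obtain ⟨P, hP⟩ := H670.Palfy.exists_sylow_le (z := p) f.range hi
  refine NoE.of_sylow ht P hP fun h => ?_
  let e : Q ≃* f.range := MonoidHom.ofInjective hf
  have h2 : Nat.card (radIn f.range) = Nat.card (solvableRadical f.range) :=
    Subgroup.card_map_of_injective f.range.subtype_injective
  have h1 : solvableRadical f.range = ⊥ := by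
    rw [eq_bot_iff]
    intro z hz
    have h3 := map_rad_le (f := e.symm.toMonoidHom) e.symm.surjective hz
    rw [rad_eq_bot_of_simple hQ, mem_bot] at h3
    rw [mem_bot]
    exact e.symm.injective (h3.trans (map_one _).symm)
  rw [h2, h1, card_bot] at h
  exact hp.out.one_lt.ne' (Nat.dvd_one.1 h)

theorem not_solvable_of {Q : Type*} [Group Q] [Finite Q] [IsSimpleGroup Q] {n : ℕ} (hc : Nat.card Q = n)
    (hn : ¬ n.Prime) : ¬ Group.IsSolvable Q := by
  intro h
  have hcomm := IsSimpleGroup.comm_iff_isSolvable.2 h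
  letI : CommGroup Q := { (inferInstance : Group Q) with mul_comm := hcomm }
  have h1 : (Nat.card Q).Prime := IsSimpleGroup.prime_card
  exact hn (hc ▸ h1)

theorem index_of {Q K : Type*} [Group Q] [Group K] [Finite Q] [Finite K] {f : Q →* K} (hf : Function.Injective f)
    {a b n : ℕ} (hQ : Nat.card Q = a) (hK : Nat.card K = b) (ha : 0 < a) (hn : a * n = b) : f.range.index = n := by
  have h1 := f.range.card_mul_index
  have h2 : Nat.card f.range = a := by
    rw [← hQ]; exact (Nat.card_congr (MonoidHom.ofInjective hf).toEquiv).symm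
  rw [h2, hK, ← hn] at h1
  exact Nat.eq_of_mul_eq_mul_left ha h1

theorem ne_top_of_index {K : Type*} [Group K] {H : Subgroup K} {n : ℕ} (h : H.index = n) (hn : n ≠ 1) : H ≠ ⊤ := by
  rintro rfl
  rw [index_top] at h
  exact hn h.symm

/-- `McL` in `Co3`. -/
noncomputable def mclCo3 : Spor.McL →* Spor.Co3 := Subgroup.inclusion fun _ h => h.1

/-- `McL` in `Co2`. -/
noncomputable def mclCo2 : Spor.McL →* Spor.Co2 := Subgroup.inclusion fun _ h => ⟨h.1.1, h.2⟩

/-- `M23` in `Co3`. -/
noncomputable def m23Co3 : Spor.M23 →* Spor.Co3 :=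
  (Co0.subtype.comp embC).codRestrict Spor.Co3 (fun g => ⟨(embC g).2, embC_V g⟩)

theorem m23Co3_injective : Function.Injective m23Co3 := by
  intro a b h
  apply embC_injective
  exact Subtype.ext (congrArg (fun z : Spor.Co3 => (z : Equiv.Perm leechLattice)) h)

theorem exists_m23Co2 : ∃ f : Spor.M23 →* Spor.Co2, Function.Injective f := by
  obtain ⟨k, hk⟩ := S0400.result leechW Spor.leechU (by show sqNorm vecW = 32; decide) (by
    show sqNorm Spor.vecU = 32; decide)
  have hk' : k⁻¹ • Spor.leechU = leechW := by rw [← hk, inv_smul_smul]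
  have hfix : ∀ g : Spor.M23, (k * embC g * k⁻¹) • Spor.leechU = Spor.leechU := by
    intro g
    rw [mul_smul, mul_smul, hk', embC_W, hk]
  let f : Spor.M23 →* Spor.Co2 :=
    (Co0.subtype.comp ((MulAut.conj k).toMonoidHom.comp embC)).codRestrict Spor.Co2
      (fun g => ⟨((MulAut.conj k).toMonoidHom (embC g)).2, hfix g⟩)
  refine ⟨f, ?_⟩
  intro a b h
  apply embC_injective
  apply (MulAut.conj k).injective
  exact Subtype.ext (congrArg (fun z : Spor.Co2 => (z : Equiv.Perm leechLattice)) h)

theorem finite_of_card {X : Type*} {n : ℕ} (h : Nat.card X = n) (hn : n ≠ 0) : Finite X :=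
  Nat.finite_of_card_ne_zero (by rw [h]; exact hn)

/-- **`Co3`** -/
theorem noE_co3 {K : Type*} [Group K] [Finite K] [IsSimpleGroup K] (h : Cfsg.Spor.IsoCo3 K) {p : ℕ} [Fact p.Prime]
    (hp : 5 ≤ p) (_hb : Cfsg.Agent.H301.SY.Blk p K) (_hO : Cfsg.Agent.H301.SY.ThO p K) :
    Cfsg.Agent.H301.SY.NoE p K := by
  obtain ⟨e⟩ := h
  have hcK : Nat.card Spor.Co3 = 495766656000 := Cfsg.Agent.NotCT.Orders.co3 ⟨MulEquiv.refl _⟩
  haveI : Finite Spor.Co3 := finite_of_card hcK (by norm_num)
  refine NoE.congr e ?_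
  by_cases h23 : p = 23
  · subst h23
    haveI := Cfsg.Agent.H729.PairMathieu.simple_M23
    have hc := Cfsg.Agent.SporadicA.MathieuRecog.card_M23
    haveI : Finite Spor.M23 := finite_of_card hc (by norm_num)
    have hi := index_of m23Co3_injective hc hcK (n := 48600) (by norm_num) (by norm_num)
    exact noE_of_range (not_solvable_of hc (by norm_num)) m23Co3 m23Co3_injective
      (ne_top_of_index hi (by norm_num)) (by rw [hi]; norm_num)
  · haveI := Cfsg.Agent.Schreier.McLaughlin.isSimple_mcl
    have hc := Cfsg.Agent.Schreier.McLaughlin.card_mcl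
    haveI : Finite Spor.McL := finite_of_card hc (by norm_num)
    have hi := index_of (f := mclCo3) (Subgroup.inclusion_injective _) hc hcK (n := 552) (by norm_num) (by norm_num)
    refine noE_of_range (not_solvable_of hc (by norm_num)) mclCo3 (Subgroup.inclusion_injective _)
      (ne_top_of_index hi (by norm_num)) ?_
    rw [hi]
    intro hd
    have hpp : p.Prime := Fact.out
    have h1 : (552 : ℕ) = 2 ^ 3 * 3 * 23 := by norm_num
    rw [h1, hpp.dvd_mul, hpp.dvd_mul] at hd
    rcases hd with (hd | hd) | hd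
    · have := Nat.le_of_dvd (by norm_num) (hpp.dvd_of_dvd_pow hd)
      omega
    · have := Nat.le_of_dvd (by norm_num) hd
      omega
    · exact h23 ((Nat.prime_dvd_prime_iff_eq hpp (by norm_num)).1 hd)

/-- **`Co2`** -/
theorem noE_co2 {K : Type*} [Group K] [Finite K] [IsSimpleGroup K] (h : Cfsg.Spor.IsoCo2 K) {p : ℕ} [Fact p.Prime]
    (hp : 5 ≤ p) (_hb : Cfsg.Agent.H301.SY.Blk p K) (_hO : Cfsg.Agent.H301.SY.ThO p K) :
    Cfsg.Agent.H301.SY.NoE p K := by
  obtain ⟨e⟩ := h
  have hcK : Nat.card Spor.Co2 = 42305421312000 := Cfsg.Agent.NotCT.Orders.co2 ⟨MulEquiv.refl _⟩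
  haveI : Finite Spor.Co2 := finite_of_card hcK (by norm_num)
  refine NoE.congr e ?_
  by_cases h23 : p = 23
  · subst h23
    haveI := Cfsg.Agent.H729.PairMathieu.simple_M23
    have hc := Cfsg.Agent.SporadicA.MathieuRecog.card_M23
    haveI : Finite Spor.M23 := finite_of_card hc (by norm_num)
    obtain ⟨f, hf⟩ := exists_m23Co2
    have hi := index_of hf hc hcK (n := 4147200) (by norm_num) (by norm_num)
    exact noE_of_range (not_solvable_of hc (by norm_num)) f hf
      (ne_top_of_index hi (by norm_num)) (by rw [hi]; norm_num)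
  · haveI := Cfsg.Agent.Schreier.McLaughlin.isSimple_mcl
    have hc := Cfsg.Agent.Schreier.McLaughlin.card_mcl
    haveI : Finite Spor.McL := finite_of_card hc (by norm_num)
    have hi := index_of (f := mclCo2) (Subgroup.inclusion_injective _) hc hcK (n := 47104) (by norm_num) (by norm_num)
    refine noE_of_range (not_solvable_of hc (by norm_num)) mclCo2 (Subgroup.inclusion_injective _)
      (ne_top_of_index hi (by norm_num)) ?_
    rw [hi]
    intro hd
    have hpp : p.Prime := Fact.out
    have h1 : (47104 : ℕ) = 2 ^ 11 * 23 := by norm_num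
    rw [h1, hpp.dvd_mul] at hd
    rcases hd with hd | hd
    · have := Nat.le_of_dvd (by norm_num) (hpp.dvd_of_dvd_pow hd)
      omega
    · exact h23 ((Nat.prime_dvd_prime_iff_eq hpp (by norm_num)).1 hd)

end Cfsg.Agent.H352.NoECo
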