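import Cfsg.Agent.H352.Frob313
import Cfsg.Agent.LieClassical.OmegaReindex

/-!
# Degrees of classical groups in characteristic `≠ 3` with an `Act N` (helper352)
-/

set_option autoImplicit false

namespace Cfsg.Agent.H352.Frob313

open Cfsg

variable {F : Type*} [Field F] {N : ℕ} {X : Type*} [Group X]

theorem psl [Finite F] (hN : N.Prime) (h3 : (3 : F) ≠ 0) {n : ℕ} (h : Act N X)
    (e : X ≃* Matrix.ProjectiveSpecialLinearGroup (Fin n) F) : N ≤ n := by
  have := Fintype.ofFinite F
  have h1 := Act.le (M := Matrix.SpecialLinearGroup (Fin n) F) hN (h.congr e) (F := F) (ι := Fin n) h3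
    ((Units.coeHom (Matrix (Fin n) (Fin n) F)).comp Matrix.SpecialLinearGroup.toGL) (by
      intro a b hab
      exact Subtype.ext hab)
  rwa [Fintype.card_fin] at h1

theorem psp [Finite F] (hN : N.Prime) (h3 : (3 : F) ≠ 0) {m : ℕ} (h : Act N X) (e : X ≃* PSp m F) :
    N ≤ m + m := by
  have : Finite ↥(Matrix.symplecticGroup (Fin m) F) := Subtype.finite
  have h1 := Act.le (M := ↥(Matrix.symplecticGroup (Fin m) F)) hN (h.congr e) (F := F) (ι := Fin m ⊕ Fin m) h3
    (Submonoid.subtype (Matrix.symplecticGroup (Fin m) F)) Subtype.val_injective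
  rwa [Fintype.card_sum, Fintype.card_fin] at h1

theorem psu [Fintype F] (hN : N.Prime) (h3 : (3 : F) ≠ 0) {n q : ℕ}
    (h : Act N X) (e : X ≃* PSU n F q) : N ≤ n := by
  have h1 := Act.le (M := ↥(SU n F q)) hN (h.congr e) (F := F) (ι := Fin n) h3
    ((slToMat n F).comp (SU n F q).subtype) (by
      intro a b hab
      exact Subtype.ext (Subtype.ext hab))
  rwa [Fintype.card_fin] at h1

theorem omega_inj {κ : Type} [Fintype κ] [DecidableEq κ] (Q : (κ → F) → F) :
    Function.Injective (((Units.coeHom (Matrix κ κ F)).comp (isometryGroup F Q).subtype).comp (Omega F Q).subtype) := by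
  intro a b hab
  exact Subtype.ext (Subtype.ext (Units.ext hab))

theorem pomega [Finite F] (hN : N.Prime) (h3 : (3 : F) ≠ 0) {κ : Type} [Fintype κ] [DecidableEq κ] (Q : (κ → F) → F)
    (h : Act N X) (e : X ≃* POmega F Q) : N ≤ Fintype.card κ :=
  Act.le (M := ↥(Omega F Q)) hN (h.congr e) (F := F) (ι := κ) h3
    (((Units.coeHom (Matrix _ _ F)).comp (isometryGroup F _).subtype).comp (Omega F _).subtype) (omega_inj _)

theorem oodd [Finite F] (hN : N.Prime) (h3 : (3 : F) ≠ 0) {m : ℕ} (h : Act N X)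
    (e : X ≃* POmega F (quadFormOdd m F)) : N ≤ 1 + (m + m) := by
  rw [← LieClassical.OmegaReindex.coe_quadOdd] at e
  have h1 := pomega hN h3 _ h e
  simpa only [Fintype.card_sum, Fintype.card_fin, Fintype.card_unit] using h1

theorem oplus [Finite F] (hN : N.Prime) (h3 : (3 : F) ≠ 0) {m : ℕ} (h : Act N X)
    (e : X ≃* POmega F (quadFormPlus m F)) : N ≤ m + m := by
  rw [← LieClassical.OmegaReindex.coe_quadPlus] at e
  have h1 := pomega hN h3 _ h e
  simpa only [Fintype.card_sum, Fintype.card_fin, Fintype.card_unit] using h1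

theorem ominus [Finite F] (hN : N.Prime) (h3 : (3 : F) ≠ 0) {m : ℕ} {a b : F} (h : Act N X)
    (e : X ≃* POmega F (quadFormMinus m F a b)) : N ≤ m + m + 2 := by
  rw [← LieClassical.OmegaReindex.coe_quadMinus] at e
  have h1 := pomega hN h3 _ h e
  simpa only [Fintype.card_sum, Fintype.card_fin, Fintype.card_unit] using h1

end Cfsg.Agent.H352.Frob313
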