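import Mathlib

/-!
# The 3-part of the order formulas of classical groups of degree at least 13, characteristic prime to 3 (helper352)
-/

set_option autoImplicit false

namespace Cfsg.Agent.H352.Three13

theorem three_dvd {q : ℕ} (hq : ¬ 3 ∣ q) (k : ℕ) : 3 ∣ q ^ (2 * k) - 1 := by
  have h1 : q ^ 2 % 3 = 1 := by
    have h2 : q % 3 = 1 ∨ q % 3 = 2 := by omega
    rw [Nat.pow_mod]
    rcases h2 with h | h <;> rw [h]
  have h3 : q ^ (2 * k) % 3 = 1 := by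
    rw [pow_mul, Nat.pow_mod, h1, one_pow]
    norm_num
  omega

theorem nine_dvd {q : ℕ} (hq : ¬ 3 ∣ q) (k : ℕ) : 9 ∣ q ^ (6 * k) - 1 := by
  have h1 : q ^ 6 % 9 = 1 := by
    have h2 : q % 9 = 1 ∨ q % 9 = 2 ∨ q % 9 = 4 ∨ q % 9 = 5 ∨ q % 9 = 7 ∨ q % 9 = 8 := by omega
    rw [Nat.pow_mod]
    rcases h2 with h | h | h | h | h | h <;> rw [h]
  have h3 : q ^ (6 * k) % 9 = 1 := by
    rw [pow_mul, Nat.pow_mod, h1, one_pow]
    norm_num
  omega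

theorem sub_dvd {q d : ℕ} (hd : d ∣ q - 1) (k : ℕ) : d ∣ q ^ k - 1 :=
  hd.trans (by simpa using Nat.sub_dvd_pow_sub_pow q 1 k)

theorem add_dvd {q d : ℕ} (hd : d ∣ q + 1) {k : ℕ} (hk : Odd k) : d ∣ q ^ k + 1 :=
  hd.trans (by simpa using Odd.nat_add_dvd_pow_add_pow q 1 hk)

theorem lin13 {q d : ℕ} (hq : ¬ 3 ∣ q) (hd : d ∣ q - 1) :
    (q - 1) * (d * 3 ^ 8) ∣ ∏ i ∈ Finset.range 13, (q ^ (i + 1) - 1) := by
  have h1 : ∏ i ∈ Finset.range 13, (if i = 0 then q - 1 else if i = 2 then d else if i % 6 = 5 then 9 else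
      if i % 2 = 1 then 3 else 1) = (q - 1) * (d * 3 ^ 8) := by
    simp only [Finset.prod_range_succ, Finset.prod_range_zero]
    norm_num
    ring
  rw [← h1]
  apply Finset.prod_dvd_prod_of_dvd
  intro i _
  split_ifs with h0 h2 h4 h3
  · rw [h0, zero_add, pow_one]
  · exact sub_dvd hd _
  · obtain ⟨k, hk⟩ : ∃ k, i + 1 = 6 * k := ⟨(i + 1) / 6, by omega⟩
    rw [hk]
    exact nine_dvd hq k
  · obtain ⟨k, hk⟩ : ∃ k, i + 1 = 2 * k := ⟨(i + 1) / 2, by omega⟩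
    rw [hk]
    exact three_dvd hq k
  · exact one_dvd _

theorem uni13 {q d : ℕ} (hq : ¬ 3 ∣ q) (hd : d ∣ q + 1) :
    (q + 1) * (d * 3 ^ 8) ∣ ∏ i ∈ Finset.range 13, (if Even i then q ^ (i + 1) + 1 else q ^ (i + 1) - 1) := by
  have h1 : ∏ i ∈ Finset.range 13, (if i = 0 then q + 1 else if i = 2 then d else if i % 6 = 5 then 9 else
      if i % 2 = 1 then 3 else 1) = (q + 1) * (d * 3 ^ 8) := by
    simp only [Finset.prod_range_succ, Finset.prod_range_zero]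
    norm_num
    ring
  rw [← h1]
  apply Finset.prod_dvd_prod_of_dvd
  intro i _
  by_cases h0 : i = 0
  · subst h0; simp
  rw [if_neg h0]
  by_cases h2 : i = 2
  · subst h2
    rw [if_pos rfl, if_pos (by decide)]
    exact add_dvd hd (by decide)
  rw [if_neg h2]
  by_cases h4 : i % 6 = 5
  · rw [if_pos h4, if_neg (by rw [Nat.even_iff]; omega)]
    obtain ⟨k, hk⟩ : ∃ k, i + 1 = 6 * k := ⟨(i + 1) / 6, by omega⟩
    rw [hk]
    exact nine_dvd hq k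
  rw [if_neg h4]
  by_cases h3 : i % 2 = 1
  · rw [if_pos h3, if_neg (by rw [Nat.even_iff]; omega)]
    obtain ⟨k, hk⟩ : ∃ k, i + 1 = 2 * k := ⟨(i + 1) / 2, by omega⟩
    rw [hk]
    exact three_dvd hq k
  · rw [if_neg h3]
    exact one_dvd _

/-- linear groups -/
theorem psl {q n c : ℕ} (hq : ¬ 3 ∣ q) (hq1 : 1 < q) (hn : 13 ≤ n)
    (h : Nat.gcd n (q - 1) * ((q - 1) * c) = ∏ i : Fin n, (q ^ n - q ^ (i : ℕ))) : 3 ^ 8 ∣ c := by
  rw [Fin.prod_univ_eq_prod_range (fun i => q ^ n - q ^ i) n, ← Finset.prod_range_reflect] at h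
  have h1 : ∏ i ∈ Finset.range n, (q ^ (i + 1) - 1) ∣ ∏ j ∈ Finset.range n, (q ^ n - q ^ (n - 1 - j)) := by
    apply Finset.prod_dvd_prod_of_dvd
    intro i hi
    rw [Finset.mem_range] at hi
    refine ⟨q ^ (n - 1 - i), ?_⟩
    rw [Nat.sub_mul, one_mul, ← pow_add]
    congr 2
    omega
  have h2 : (q - 1) * (Nat.gcd n (q - 1) * 3 ^ 8) ∣ Nat.gcd n (q - 1) * ((q - 1) * c) := by
    rw [h]
    exact ((lin13 hq (Nat.gcd_dvd_right _ _)).trans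
      (Finset.prod_dvd_prod_of_subset _ _ _ (Finset.range_mono hn))).trans h1
  have h3 : 0 < (q - 1) * Nat.gcd n (q - 1) :=
    Nat.mul_pos (by omega) (Nat.gcd_pos_of_pos_right _ (by omega))
  apply Nat.dvd_of_mul_dvd_mul_left h3
  convert h2 using 1 <;> ring

/-- unitary groups -/
theorem psu {q n c : ℕ} (hq : ¬ 3 ∣ q) (hn : 13 ≤ n)
    (h : Nat.gcd n (q + 1) * ((q + 1) * c) =
      q ^ (n * (n - 1) / 2) * ∏ i ∈ Finset.range n, (if Even i then q ^ (i + 1) + 1 else q ^ (i + 1) - 1)) :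
    3 ^ 8 ∣ c := by
  have h2 : (q + 1) * (Nat.gcd n (q + 1) * 3 ^ 8) ∣ Nat.gcd n (q + 1) * ((q + 1) * c) := by
    rw [h]
    exact ((uni13 hq (Nat.gcd_dvd_right _ _)).trans
      (Finset.prod_dvd_prod_of_subset _ _ _ (Finset.range_mono hn))).trans (Dvd.intro_left _ rfl)
  have h3 : 0 < (q + 1) * Nat.gcd n (q + 1) :=
    Nat.mul_pos (by omega) (Nat.gcd_pos_of_pos_right _ (by omega))
  apply Nat.dvd_of_mul_dvd_mul_left h3
  convert h2 using 1 <;> ring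

theorem prB6 {q m : ℕ} (hq : ¬ 3 ∣ q) (hm : 6 ≤ m) : 3 ^ 8 ∣ ∏ i ∈ Finset.range m, (q ^ (2 * (i + 1)) - 1) := by
  have h1 : ∏ i ∈ Finset.range 6, (if i % 3 = 2 then 9 else 3) = 3 ^ 8 := by
    simp only [Finset.prod_range_succ, Finset.prod_range_zero]
    norm_num
  rw [← h1]
  refine Dvd.dvd.trans ?_ (Finset.prod_dvd_prod_of_subset _ _ _ (Finset.range_mono hm))
  apply Finset.prod_dvd_prod_of_dvd
  intro i _
  split_ifs with h0
  · obtain ⟨k, hk⟩ : ∃ k, 2 * (i + 1) = 6 * k := ⟨(i + 1) / 3, by omega⟩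
    rw [hk]
    exact nine_dvd hq k
  · exact three_dvd hq _

/-- factors at most two -/
theorem half {d c r : ℕ} (hd : d ∣ 2) (hr : 3 ^ 8 ∣ r) (h : d * c = r) : 3 ^ 8 ∣ c := by
  rw [← h] at hr
  refine Nat.Coprime.dvd_of_dvd_mul_left ?_ hr
  exact Nat.Coprime.coprime_dvd_right hd (by norm_num)

/-- orthogonal groups of even degree -/
theorem orth {q m c a b e : ℕ} (hq : ¬ 3 ∣ q) (hm : 6 ≤ m) (ha : 0 < a) (hab : a ∣ b)
    (h : a * c = q ^ e * b * ∏ i ∈ Finset.range m, (q ^ (2 * (i + 1)) - 1)) : 3 ^ 8 ∣ c := by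
  obtain ⟨t, rfl⟩ := hab
  have h1 : c = q ^ e * t * ∏ i ∈ Finset.range m, (q ^ (2 * (i + 1)) - 1) := by
    apply Nat.eq_of_mul_eq_mul_left ha
    rw [h]
    ring
  rw [h1]
  exact (prB6 hq hm).trans (Dvd.intro_left _ rfl)

/-- `²F₄(q)` -/
theorem tf4 {q : ℕ} (hq : q % 3 = 2) (h : 3 ^ 6 ∣ q ^ 12 * (q ^ 6 + 1) * (q ^ 4 - 1) * (q ^ 3 + 1) * (q - 1)) :
    3 ^ 7 ∣ q ^ 12 * (q ^ 6 + 1) * (q ^ 4 - 1) * (q ^ 3 + 1) * (q - 1) := by
  have hq1 : 1 ≤ q := by omega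
  have c0 : Nat.Coprime 3 q := (Nat.Prime.coprime_iff_not_dvd Nat.prime_three).2 (by omega)
  have h2 : q ^ 2 % 3 = 1 := by rw [Nat.pow_mod, hq]
  have c1 : Nat.Coprime 3 (q ^ 6 + 1) := by
    rw [Nat.Prime.coprime_iff_not_dvd Nat.prime_three]
    have : q ^ 6 % 3 = 1 := by rw [Nat.pow_mod, hq]
    omega
  have c2 : Nat.Coprime 3 (q ^ 2 + 1) := by
    rw [Nat.Prime.coprime_iff_not_dvd Nat.prime_three]
    omega
  have c3 : Nat.Coprime 3 (q - 1) := by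
    rw [Nat.Prime.coprime_iff_not_dvd Nat.prime_three]
    omega
  have e4 : q ^ 4 - 1 = (q ^ 2 + 1) * ((q + 1) * (q - 1)) := by
    obtain ⟨r, rfl⟩ : ∃ r, q = r + 1 := ⟨q - 1, by omega⟩
    have : (r + 1) ^ 4 = ((r + 1) ^ 2 + 1) * ((r + 1 + 1) * (r + 1 - 1)) + 1 := by
      rw [Nat.add_sub_cancel]; ring
    rw [this, Nat.add_sub_cancel]
  -- `q = 3 r + 2`
  obtain ⟨r, hr⟩ : ∃ r, q = 3 * r + 2 := ⟨q / 3, by omega⟩
  have e3 : q ^ 3 + 1 = (q + 1) * (3 * (3 * r ^ 2 + 3 * r + 1)) := by rw [hr]; ring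
  have c4 : Nat.Coprime 3 (3 * r ^ 2 + 3 * r + 1) := by
    rw [Nat.Prime.coprime_iff_not_dvd Nat.prime_three]
    omega
  have h5 : 3 ^ 5 ∣ (r + 1) ^ 2 * 3 ^ 2 := by
    have e5 : q ^ 12 * (q ^ 6 + 1) * (q ^ 4 - 1) * (q ^ 3 + 1) * (q - 1) =
        ((r + 1) ^ 2 * 3 ^ 2 * 3) * (q ^ 12 * (q ^ 6 + 1) * (q ^ 2 + 1) * (q - 1) * (q - 1) *
          (3 * r ^ 2 + 3 * r + 1)) := by
      rw [e4, e3]
      generalize q - 1 = t
      have : q + 1 = 3 * (r + 1) := by rw [hr]; ring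
      rw [this]; ring
    rw [e5] at h
    have c5 : Nat.Coprime (3 ^ 6) (q ^ 12 * (q ^ 6 + 1) * (q ^ 2 + 1) * (q - 1) * (q - 1) *
          (3 * r ^ 2 + 3 * r + 1)) := by
      apply Nat.Coprime.pow_left
      exact Nat.Coprime.mul_right (Nat.Coprime.mul_right (Nat.Coprime.mul_right (Nat.Coprime.mul_right
        (Nat.Coprime.mul_right (c0.pow_right 12) c1) c2) c3) c3) c4
    have h6 := c5.dvd_of_dvd_mul_right h
    rw [show (3 : ℕ) ^ 6 = 3 ^ 5 * 3 by norm_num] at h6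
    exact Nat.dvd_of_mul_dvd_mul_right (by norm_num) h6
  have h6 : 3 ^ 3 ∣ (r + 1) ^ 2 := by
    rw [show (3 : ℕ) ^ 5 = 3 ^ 3 * 3 ^ 2 by norm_num] at h5
    exact Nat.dvd_of_mul_dvd_mul_right (by norm_num) h5
  have h7 : 3 ∣ r + 1 := Nat.prime_three.dvd_of_dvd_pow (Dvd.dvd.trans (by norm_num) h6)
  obtain ⟨t, ht⟩ := h7
  have h8 : 3 ∣ t := by
    rw [ht, mul_pow, show (3 : ℕ) ^ 3 = 3 ^ 2 * 3 by norm_num] at h6
    have := Nat.dvd_of_mul_dvd_mul_left (by norm_num) h6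
    exact Nat.prime_three.dvd_of_dvd_pow this
  obtain ⟨w, hw⟩ := h8
  have e6 : q + 1 = 3 ^ 3 * w := by rw [hr]; omega
  have e7 : q ^ 12 * (q ^ 6 + 1) * (q ^ 4 - 1) * (q ^ 3 + 1) * (q - 1) =
      3 ^ 7 * (q ^ 12 * (q ^ 6 + 1) * ((q ^ 2 + 1) * (w * (q - 1))) * (w * (3 * r ^ 2 + 3 * r + 1)) * (q - 1)) := by
    rw [e4, e3, e6]; ring
  rw [e7]
  exact Dvd.intro _ rfl

end Cfsg.Agent.H352.Three13
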