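import Cfsg.Agent.H912.Bd1

/-!
# Abelian 3-subgroups normalised by an element of order 13 (helper352)

`commute_pow_factorial` : `A` a finite abelian subgroup of `L` of order prime to the characteristic, `s` normalises `A`:
in a faithful representation of degree `n`, `s ^ n!` centralises `A`.

`Act N X` : `X` has an elementary abelian 3-subgroup `A` in which every pair of independent elements is swapped by an
element of `X`, and an element `s` normalising `A`, whose order on `A` is divisible by the prime `N`.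

`Act.le` : if `X ≅ M / Z(M)` and `M` has a faithful representation of degree `n` in characteristic `≠ 3`, then `N ≤ n`.
-/

set_option autoImplicit false

namespace Cfsg.Agent.H352.Frob313

open Module Cfsg.Agent.H912.Bd

section

variable {K : Type*} [Field K] [IsAlgClosed K] {V : Type*} [AddCommGroup V] [Module K V] [FiniteDimensional K V]
  {L : Type*} [Group L]

/-- An element normalising an abelian subgroup `A` permutes the weights of `A`. -/
theorem commute_pow_factorial (ρ : L →* Module.End K V) (hρ : Function.Injective ρ) {A : Subgroup L} [Finite A]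
    (hA : ∀ a ∈ A, ∀ b ∈ A, a * b = b * a) {N : ℕ} (hN : (N : K) ≠ 0) (hAN : ∀ a ∈ A, a ^ N = 1) {s : L}
    (hs : ∀ a ∈ A, s * a * s⁻¹ ∈ A) : ∀ a ∈ A, s ^ (finrank K V).factorial * a = a * s ^ (finrank K V).factorial := by
  classical
  let c : A → A := fun a => ⟨s * a * s⁻¹, hs a a.2⟩
  have hc : Function.Injective c := by
    intro a b hab
    have := congrArg Subtype.val hab
    exact Subtype.ext (by simpa [c] using this)
  have hcs : Function.Surjective c := Finite.surjective_of_injective hc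
  have hci : ∀ (m : ℕ) (a : A), ((c^[m] a : A) : L) = s ^ m * a * (s ^ m)⁻¹ := by
    intro m
    induction m with
    | zero => intro a; simp
    | succ m ih =>
      intro a
      rw [Function.iterate_succ_apply, ih]
      show s ^ m * (s * a * s⁻¹) * (s ^ m)⁻¹ = _
      rw [pow_succ]; group
  have hind := indep_wt ρ hA hN hAN
  let W := {χ : A → K // wt ρ A χ ≠ ⊥}
  have hfin : Finite W := WellFoundedGT.finite_ne_bot_of_iSupIndep hind
  have : Fintype W := Fintype.ofFinite W
  have hcard : Fintype.card W ≤ finrank K V := iSupIndep.subtype_ne_bot_le_finrank hind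
  let σ : W → W := fun χ => ⟨fun a => χ.1 (c a), by
    intro h0
    have h1 := map_wt_le ρ (χ := χ.1) hs
    have h2 : wt ρ A (fun a => χ.1 ⟨s * a * s⁻¹, hs a a.2⟩) = ⊥ := h0
    rw [h2, le_bot_iff] at h1
    obtain ⟨v, hv, hv0⟩ := Submodule.exists_mem_ne_zero_of_ne_bot χ.2
    have h3 : ρ s⁻¹ v ∈ (wt ρ A χ.1).map (ρ s⁻¹) := ⟨v, hv, rfl⟩
    rw [h1, Submodule.mem_bot] at h3
    exact hv0 (rho_injective ρ s⁻¹ (by rw [h3, map_zero]))⟩
  have hσ : Function.Injective σ := by
    intro χ χ' h
    apply Subtype.ext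
    funext a
    obtain ⟨b, rfl⟩ := hcs a
    exact congrFun (congrArg Subtype.val h) b
  have hσi : ∀ (m : ℕ) (χ : W) (a : A), (σ^[m] χ).1 a = χ.1 (c^[m] a) := by
    intro m
    induction m with
    | zero => intro χ a; rfl
    | succ m ih =>
      intro χ a
      rw [Function.iterate_succ_apply, ih, Function.iterate_succ_apply']
  let τ : Equiv.Perm W := Equiv.ofBijective σ ⟨hσ, Finite.surjective_of_injective hσ⟩
  have hτ : τ ^ (finrank K V).factorial = 1 := by
    have h1 : orderOf τ ∣ (finrank K V).factorial := by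
      refine (orderOf_dvd_card).trans ?_
      rw [Fintype.card_perm]
      exact Nat.factorial_dvd_factorial hcard
    exact orderOf_dvd_iff_pow_eq_one.1 h1
  have hτi : ∀ χ : W, σ^[(finrank K V).factorial] χ = χ := by
    intro χ
    have h1 : (τ ^ (finrank K V).factorial) χ = χ := by rw [hτ]; rfl
    rw [Equiv.Perm.coe_pow] at h1
    exact h1
  intro a ha
  have key : ρ (s ^ (finrank K V).factorial * a * (s ^ (finrank K V).factorial)⁻¹) = ρ a := by
    apply LinearMap.ext
    intro v
    have hv : v ∈ ⨆ χ, wt ρ A χ := by rw [iSup_wt ρ hA hN hAN]; trivial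
    induction hv using Submodule.iSup_induction' with
    | zero => rw [map_zero, map_zero]
    | add x y _ _ hx hy => rw [map_add, map_add, hx, hy]
    | mem χ x hx =>
      by_cases h0 : wt ρ A χ = ⊥
      · rw [h0, Submodule.mem_bot] at hx
        rw [hx, map_zero, map_zero]
      · have h1 := mem_wt.1 hx (c^[(finrank K V).factorial] ⟨a, ha⟩)
        have h2 := mem_wt.1 hx ⟨a, ha⟩
        rw [hci] at h1
        have h3 := congrFun (congrArg Subtype.val (hτi ⟨χ, h0⟩)) ⟨a, ha⟩
        rw [hσi] at h3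
        rw [h1, h2]
        exact congrArg (· • x) h3
  have h4 := hρ key
  calc s ^ (finrank K V).factorial * a
      = s ^ (finrank K V).factorial * a * (s ^ (finrank K V).factorial)⁻¹ * s ^ (finrank K V).factorial := by group
    _ = a * s ^ (finrank K V).factorial := by rw [h4]

end

/-- matrix version -/
theorem commute_pow_factorial_matrix {F : Type*} [Field F] {ι : Type*} [Fintype ι] [DecidableEq ι] {L : Type*} [Group L]
    (φ : L →* Matrix ι ι F) (hφ : Function.Injective φ) {A : Subgroup L} [Finite A]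
    (hA : ∀ a ∈ A, ∀ b ∈ A, a * b = b * a) {N : ℕ} (hN : (N : F) ≠ 0) (hAN : ∀ a ∈ A, a ^ N = 1) {s : L}
    (hs : ∀ a ∈ A, s * a * s⁻¹ ∈ A) :
    ∀ a ∈ A, s ^ (Fintype.card ι).factorial * a = a * s ^ (Fintype.card ι).factorial := by
  let f : Matrix ι ι F →* Matrix ι ι (AlgebraicClosure F) := (algebraMap F (AlgebraicClosure F)).mapMatrix.toMonoidHom
  have hf : Function.Injective f := by
    intro a b hab
    have h1 : a.map (algebraMap F (AlgebraicClosure F)) = b.map (algebraMap F (AlgebraicClosure F)) := hab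
    exact Matrix.map_injective (algebraMap F (AlgebraicClosure F)).injective h1
  let g : Matrix ι ι (AlgebraicClosure F) →* Module.End (AlgebraicClosure F) (ι → AlgebraicClosure F) :=
    (Matrix.toLinAlgEquiv' (R := AlgebraicClosure F) (n := ι)).toAlgHom
  have hg : Function.Injective g := (Matrix.toLinAlgEquiv' (R := AlgebraicClosure F) (n := ι)).injective
  have h := commute_pow_factorial (K := AlgebraicClosure F) (V := ι → AlgebraicClosure F) ((g.comp f).comp φ)
    (hg.comp (hf.comp hφ)) hA (N := N) (by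
      rw [← map_natCast (algebraMap F (AlgebraicClosure F))]
      intro h0
      exact hN ((map_eq_zero_iff _ (algebraMap F (AlgebraicClosure F)).injective).1 h0)) hAN hs
  rwa [Module.finrank_fintype_fun_eq_card] at h

/-- `X` has an elementary abelian 3-subgroup `A`, all pairs of independent elements of which are swapped in `X`, and an
element normalising `A`, of order on `A` divisible by `N`. -/
def Act (N : ℕ) (X : Type*) [Group X] : Prop := ∃ (A : Subgroup X) (s : X), Finite A ∧ (∀ a ∈ A, a ^ 3 = 1) ∧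
  (∀ a ∈ A, ∀ b ∈ A, a * b = b * a) ∧
  (∀ a ∈ A, ∀ b ∈ A, b ∈ Subgroup.zpowers a ∨ a ∈ Subgroup.zpowers b ∨ ∃ g : X, g * a * g⁻¹ = b ∧ g * b * g⁻¹ = a) ∧
  (∀ a ∈ A, s * a * s⁻¹ ∈ A) ∧ ∀ m : ℕ, (∀ a ∈ A, s ^ m * a = a * s ^ m) → N ∣ m

theorem Act.congr {N : ℕ} {X Y : Type*} [Group X] [Group Y] (e : X ≃* Y) (h : Act N X) : Act N Y := by
  obtain ⟨A, s, h0, h1, h2, h3, h4, h5⟩ := h
  refine ⟨A.map e.toMonoidHom, e s, ?_, ?_, ?_, ?_, ?_, ?_⟩
  · exact Finite.of_equiv _ (A.equivMapOfInjective e.toMonoidHom e.injective).toEquiv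
  · rintro _ ⟨a, ha, rfl⟩
    rw [← map_pow, h1 a ha, map_one]
  · rintro _ ⟨a, ha, rfl⟩ _ ⟨b, hb, rfl⟩
    rw [← map_mul, h2 a ha b hb, map_mul]
  · rintro _ ⟨a, ha, rfl⟩ _ ⟨b, hb, rfl⟩
    rcases h3 a ha b hb with ⟨n, hn⟩ | ⟨n, hn⟩ | ⟨g, hg1, hg2⟩
    · left
      exact ⟨n, by simp only at hn ⊢; rw [← hn, map_zpow]⟩
    · right; left
      exact ⟨n, by simp only at hn ⊢; rw [← hn, map_zpow]⟩
    · right; right
      refine ⟨e g, ?_, ?_⟩
      · rw [← hg1]; simp
      · show e g * e b * (e g)⁻¹ = e a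
        rw [← map_inv, ← map_mul, ← map_mul, hg2]
  · rintro _ ⟨a, ha, rfl⟩
    refine ⟨s * a * s⁻¹, h4 a ha, ?_⟩
    simp
  · intro m hm
    apply h5
    intro a ha
    apply e.injective
    rw [map_mul, map_mul, map_pow]
    exact hm (e a) ⟨a, ha, rfl⟩

/-- **Projective representations.** -/
theorem Act.le {N : ℕ} (hN : N.Prime) {M : Type*} [Group M] [Finite M] (h : Act N (M ⧸ Subgroup.center M))
    {F : Type*} [Field F] (h3 : (3 : F) ≠ 0) {ι : Type*} [Fintype ι] [DecidableEq ι]
    (φ : M →* Matrix ι ι F) (hφ : Function.Injective φ) : N ≤ Fintype.card ι := by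
  obtain ⟨A, s, h0, hexp, hcomm, hsw, hs, hN'⟩ := h
  let π : M →* M ⧸ Subgroup.center M := QuotientGroup.mk' (Subgroup.center M)
  have hπs : Function.Surjective π := QuotientGroup.mk'_surjective _
  have hπc : ∀ m : M, π m = 1 → ∀ x, m * x = x * m := by
    intro m hm x
    have h1 : m ∈ Subgroup.center M := (QuotientGroup.eq_one_iff m).1 hm
    exact (Subgroup.mem_center_iff.1 h1 x).symm
  -- lifts commute
  have hlift : ∀ a b : M, π a ∈ A → π b ∈ A → a * b = b * a := by
    intro a b ha hb
    have hc : ∀ x : M, (a * b * a⁻¹ * b⁻¹) * x = x * (a * b * a⁻¹ * b⁻¹) := by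
      apply hπc
      rw [map_mul, map_mul, map_mul, map_inv, map_inv, hcomm _ ha _ hb]
      group
    set c := a * b * a⁻¹ * b⁻¹ with hcdef
    have hab : a * b = c * (b * a) := by rw [hcdef]; group
    -- `c ^ 3 = 1`
    have hc3 : c ^ 3 = 1 := by
      have h1 : ∀ x, a ^ 3 * x = x * a ^ 3 := hπc _ (by rw [map_pow, hexp _ ha])
      have h2 : ∀ k : ℕ, a ^ k * b = c ^ k * (b * a ^ k) := by
        intro k
        induction k with
        | zero => simp
        | succ k ih =>
          have e1 : a ^ (k + 1) * b = a * (a ^ k * b) := by rw [pow_succ', mul_assoc]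
          have hck : a * c ^ k = c ^ k * a := ((show Commute c a from hc a).pow_left k).eq.symm
          rw [e1, ih, ← mul_assoc, hck, mul_assoc, ← mul_assoc a b, hab, pow_succ, pow_succ']
          simp only [mul_assoc]
      have h4 := h2 3
      rw [h1] at h4
      exact (mul_eq_right.1 h4.symm)
    rcases hsw _ ha _ hb with ⟨n, hn⟩ | ⟨n, hn⟩ | ⟨g, hg1, hg2⟩
    · -- `b = a ^ n z`
      have h1 : ∀ x, (b * (a ^ n)⁻¹) * x = x * (b * (a ^ n)⁻¹) := by
        apply hπc
        simp only at hn
        rw [map_mul, map_inv, map_zpow, hn, mul_inv_cancel]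
      have h2 : b = (b * (a ^ n)⁻¹) * a ^ n := by group
      have h3 : Commute a (a ^ n) := (Commute.refl a).zpow_right n
      have h4 : Commute a (b * (a ^ n)⁻¹) := (h1 a).symm
      have h5 : Commute a b := by rw [h2]; exact h4.mul_right h3
      exact h5
    · have h1 : ∀ x, (a * (b ^ n)⁻¹) * x = x * (a * (b ^ n)⁻¹) := by
        apply hπc
        simp only at hn
        rw [map_mul, map_inv, map_zpow, hn, mul_inv_cancel]
      have h2 : a = (a * (b ^ n)⁻¹) * b ^ n := by group
      have h3 : Commute b (b ^ n) := (Commute.refl b).zpow_right n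
      have h4 : Commute b (a * (b ^ n)⁻¹) := (h1 b).symm
      have h5 : Commute b a := by rw [h2]; exact h4.mul_right h3
      exact h5.symm
    · obtain ⟨g, rfl⟩ := hπs g
      -- `g a g⁻¹ = z1 b`, `g b g⁻¹ = z2 a`
      have hz1 : ∀ x, (g * a * g⁻¹ * b⁻¹) * x = x * (g * a * g⁻¹ * b⁻¹) := by
        apply hπc
        rw [map_mul, map_mul, map_mul, map_inv, map_inv, hg1, mul_inv_cancel]
      have hz2 : ∀ x, (g * b * g⁻¹ * a⁻¹) * x = x * (g * b * g⁻¹ * a⁻¹) := by
        apply hπc
        rw [map_mul, map_mul, map_mul, map_inv, map_inv, hg2, mul_inv_cancel]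
      set z1 := g * a * g⁻¹ * b⁻¹ with hz1d
      set z2 := g * b * g⁻¹ * a⁻¹ with hz2d
      have e1 : g * a * g⁻¹ = z1 * b := by rw [hz1d]; group
      have e2 : g * b * g⁻¹ = z2 * a := by rw [hz2d]; group
      have e3 : g * (a * b) * g⁻¹ = g * (c * (b * a)) * g⁻¹ := by rw [hab]
      have e4 : g * (a * b) * g⁻¹ = (g * a * g⁻¹) * (g * b * g⁻¹) := by group
      have e5 : g * (c * (b * a)) * g⁻¹ = (g * c) * g⁻¹ * (g * b * g⁻¹) * (g * a * g⁻¹) := by group
      rw [e4, e5, ← hc g, e1, e2] at e3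
      -- `z1 b z2 a = c z2 a z1 b`
      have e6 : z1 * b * (z2 * a) = z1 * z2 * (b * a) := by
        rw [mul_assoc z1 b, ← mul_assoc b z2, ← hz2 b]; simp only [mul_assoc]
      have e7 : c * g * g⁻¹ * (z2 * a) * (z1 * b) = z1 * z2 * (c * (a * b)) := by
        rw [mul_inv_cancel_right, mul_assoc c, mul_assoc z2 a, ← mul_assoc a z1, ← hz1 a, mul_assoc z1 a,
          ← mul_assoc z2 z1, ← hz1 z2, ← mul_assoc c, hc (z1 * z2), mul_assoc]
      rw [e6, e7] at e3
      have e8 : b * a = c * (a * b) := mul_left_cancel e3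
      rw [hab] at e8
      have e9 : c * c = 1 := by
        have : (c * c) * (b * a) = b * a := by rw [mul_assoc]; exact e8.symm
        exact mul_eq_right.1 this
      have e10 : c = 1 := by
        have : c ^ 3 = c * c * c := by rw [pow_succ, pow_two]
        rw [this, e9, one_mul] at hc3
        exact hc3
      rw [hab, e10, one_mul]
  -- the 3-part of the preimage of `A`
  obtain ⟨k, m, hm3, hcard⟩ := Nat.exists_eq_pow_mul_and_not_dvd (Nat.card_pos (α := M)).ne' 3 (by norm_num)
  let B : Subgroup M :=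
    { carrier := {x | π x ∈ A ∧ x ^ 3 ^ k = 1}
      one_mem' := ⟨by rw [map_one]; exact A.one_mem, one_pow _⟩
      mul_mem' := by
        rintro x y ⟨hx, hx'⟩ ⟨hy, hy'⟩
        refine ⟨by rw [map_mul]; exact A.mul_mem hx hy, ?_⟩
        rw [(show Commute x y from hlift x y hx hy).mul_pow, hx', hy', one_mul]
      inv_mem' := by
        rintro x ⟨hx, hx'⟩
        exact ⟨by rw [map_inv]; exact A.inv_mem hx, by rw [inv_pow, hx', inv_one]⟩ }
  obtain ⟨t, rfl⟩ := hπs s
  have hB := commute_pow_factorial_matrix φ hφ (A := B) (fun a ha b hb => hlift a b ha.1 hb.1) (N := 3 ^ k)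
    (by rw [Nat.cast_pow]; exact pow_ne_zero _ (by exact_mod_cast h3)) (fun a ha => ha.2) (s := t) (by
      rintro a ⟨ha, ha'⟩
      refine ⟨by rw [map_mul, map_mul, map_inv]; exact hs _ ha, ?_⟩
      rw [conj_pow, ha', mul_one, mul_inv_cancel])
  have hdvd : N ∣ (Fintype.card ι).factorial := by
    apply hN'
    intro a ha
    obtain ⟨x, rfl⟩ := hπs a
    have h1 : x ^ m ∈ B := by
      refine ⟨by rw [map_pow]; exact A.pow_mem ha m, ?_⟩
      rw [← pow_mul, mul_comm, ← hcard]
      exact pow_card_eq_one'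
    have h2 := hB _ h1
    have h4 : Commute (π t ^ (Fintype.card ι).factorial) (π x ^ m) := by
      have := congrArg π h2
      rw [map_mul, map_mul, map_pow, map_pow] at this
      exact this
    have hm : m.Coprime 3 := (Nat.Coprime.symm ((Nat.Prime.coprime_iff_not_dvd Nat.prime_three).2 hm3))
    have h5 : π x = (π x ^ m) ^ (m.gcdA 3) := by
      have h6 : (m.gcd 3 : ℤ) = m * m.gcdA 3 + (3 : ℕ) * m.gcdB 3 := Nat.gcd_eq_gcd_ab m 3
      rw [hm.gcd_eq_one] at h6
      calc π x = π x ^ (((1 : ℕ) : ℤ)) := by rw [Nat.cast_one, zpow_one]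
        _ = π x ^ ((m : ℤ) * m.gcdA 3) * (π x ^ (((3 : ℕ) : ℤ) * m.gcdB 3)) := by rw [h6, zpow_add]
        _ = (π x ^ m) ^ (m.gcdA 3) := by
          rw [zpow_mul, zpow_mul, zpow_natCast, zpow_natCast, hexp _ ha, one_zpow, mul_one]
    rw [h5]
    exact (h4.zpow_right _).eq
  exact (hN.dvd_factorial).1 hdvd

end Cfsg.Agent.H352.Frob313
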