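import Cfsg.Agent.H352.NoECo
import Cfsg.Agent.H959.T5.Tools

/-!
# S3854: the rows `Co3`, `Co2` (helper352)
-/

set_option autoImplicit false
set_option linter.style.haveILetI false

namespace Cfsg.Agent.H352.NoTECo

open Cfsg Subgroup Cfsg.Agent.H459.Rad Cfsg.Agent.H301.SY MulAction Cfsg.Agent.H964.NoHall Cfsg.Agent.H352.NoECo
open Cfsg.Agent.H959.T5

/-- a simple subgroup of index prime to `p` -/
theorem noTE_of_range {Q K : Type*} [Group Q] [Group K] [Finite Q] [Finite K] [IsSimpleGroup Q]
    (hQ : ¬ Group.IsSolvable Q) (f : Q →* K) (hf : Function.Injective f) (ht : f.range ≠ ⊤) {p : ℕ}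
    [hp : Fact p.Prime] (hi : ¬ p ∣ f.range.index) : NoTE p K := by
  obtain ⟨P, hP⟩ := H670.Palfy.exists_sylow_le (z := p) f.range hi
  refine NoTE.of_sylow ht P hP fun h => ?_
  let e : Q ≃* f.range := MonoidHom.ofInjective hf
  have h2 : Nat.card (radIn f.range) = Nat.card (solvableRadical f.range) :=
    Subgroup.card_map_of_injective f.range.subtype_injective
  have h1 : solvableRadical f.range = ⊥ := by
    rw [eq_bot_iff]
    intro z hz
    have h3 := map_rad_le (f := e.symm.toMonoidHom) e.symm.surjective hz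
    rw [rad_eq_bot_of_simple hQ, mem_bot] at h3
    rw [mem_bot]
    exact e.symm.injective (h3.trans (map_one _).symm)
  rw [h2, h1, card_bot] at h
  exact hp.out.one_lt.ne' (Nat.dvd_one.1 h)

/-- **`Co3`** -/
theorem noTE_co3 {K : Type*} [Group K] [Finite K] [IsSimpleGroup K] (h : Cfsg.Spor.IsoCo3 K) {p : ℕ} [Fact p.Prime]
    (hp : 5 ≤ p) (_hb : Cfsg.Agent.H301.SY.Blk p K) (_hO : Cfsg.Agent.H301.SY.ThO p K) :
    Cfsg.Agent.H959.T5.NoTE p K := by
  obtain ⟨e⟩ := h
  have hcK : Nat.card Spor.Co3 = 495766656000 := Cfsg.Agent.NotCT.Orders.co3 ⟨MulEquiv.refl _⟩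
  haveI : Finite Spor.Co3 := finite_of_card hcK (by norm_num)
  refine NoTE.congr e ?_
  by_cases h23 : p = 23
  · subst h23
    haveI := Cfsg.Agent.H729.PairMathieu.simple_M23
    have hc := Cfsg.Agent.SporadicA.MathieuRecog.card_M23
    haveI : Finite Spor.M23 := finite_of_card hc (by norm_num)
    have hi := index_of m23Co3_injective hc hcK (n := 48600) (by norm_num) (by norm_num)
    exact noTE_of_range (not_solvable_of hc (by norm_num)) m23Co3 m23Co3_injective
      (ne_top_of_index hi (by norm_num)) (by rw [hi]; norm_num)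
  · haveI := Cfsg.Agent.Schreier.McLaughlin.isSimple_mcl
    have hc := Cfsg.Agent.Schreier.McLaughlin.card_mcl
    haveI : Finite Spor.McL := finite_of_card hc (by norm_num)
    have hi := index_of (f := mclCo3) (Subgroup.inclusion_injective _) hc hcK (n := 552) (by norm_num) (by norm_num)
    refine noTE_of_range (not_solvable_of hc (by norm_num)) mclCo3 (Subgroup.inclusion_injective _)
      (ne_top_of_index hi (by norm_num)) ?_
    rw [hi]
    intro hd
    have hpp : p.Prime := Fact.out
    have h1 : (552 : ℕ) = 2 ^ 3 * 3 * 23 := by norm_num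
    rw [h1, hpp.dvd_mul, hpp.dvd_mul] at hd
    rcases hd with (hd | hd) | hd
    · have := Nat.le_of_dvd (by norm_num) (hpp.dvd_of_dvd_pow hd)
      omega
    · have := Nat.le_of_dvd (by norm_num) hd
      omega
    · exact h23 ((Nat.prime_dvd_prime_iff_eq hpp (by norm_num)).1 hd)

/-- **`Co2`** -/
theorem noTE_co2 {K : Type*} [Group K] [Finite K] [IsSimpleGroup K] (h : Cfsg.Spor.IsoCo2 K) {p : ℕ} [Fact p.Prime]
    (hp : 5 ≤ p) (_hb : Cfsg.Agent.H301.SY.Blk p K) (_hO : Cfsg.Agent.H301.SY.ThO p K) :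
    Cfsg.Agent.H959.T5.NoTE p K := by
  obtain ⟨e⟩ := h
  have hcK : Nat.card Spor.Co2 = 42305421312000 := Cfsg.Agent.NotCT.Orders.co2 ⟨MulEquiv.refl _⟩
  haveI : Finite Spor.Co2 := finite_of_card hcK (by norm_num)
  refine NoTE.congr e ?_
  by_cases h23 : p = 23
  · subst h23
    haveI := Cfsg.Agent.H729.PairMathieu.simple_M23
    have hc := Cfsg.Agent.SporadicA.MathieuRecog.card_M23
    haveI : Finite Spor.M23 := finite_of_card hc (by norm_num)
    obtain ⟨f, hf⟩ := exists_m23Co2
    have hi := index_of hf hc hcK (n := 4147200) (by norm_num) (by norm_num)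
    exact noTE_of_range (not_solvable_of hc (by norm_num)) f hf
      (ne_top_of_index hi (by norm_num)) (by rw [hi]; norm_num)
  · haveI := Cfsg.Agent.Schreier.McLaughlin.isSimple_mcl
    have hc := Cfsg.Agent.Schreier.McLaughlin.card_mcl
    haveI : Finite Spor.McL := finite_of_card hc (by norm_num)
    have hi := index_of (f := mclCo2) (Subgroup.inclusion_injective _) hc hcK (n := 47104) (by norm_num) (by norm_num)
    refine noTE_of_range (not_solvable_of hc (by norm_num)) mclCo2 (Subgroup.inclusion_injective _)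
      (ne_top_of_index hi (by norm_num)) ?_
    rw [hi]
    intro hd
    have hpp : p.Prime := Fact.out
    have h1 : (47104 : ℕ) = 2 ^ 11 * 23 := by norm_num
    rw [h1, hpp.dvd_mul] at hd
    rcases hd with hd | hd
    · have := Nat.le_of_dvd (by norm_num) (hpp.dvd_of_dvd_pow hd)
      omega
    · exact h23 ((Nat.prime_dvd_prime_iff_eq hpp (by norm_num)).1 hd)

end Cfsg.Agent.H352.NoTECo
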