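import Cfsg.Agent.H454.SYCoOne
import Cfsg.Agent.H959.T5.Base

/-!
# S3854: the row `Co1` (helper352, task 2796)

Translation of `H454.SYCoOne` (S3846), where only `RE` was used.
-/

set_option autoImplicit false
set_option maxRecDepth 20000

namespace Cfsg.Agent.H352.NoTECoOne

open Subgroup Cfsg Cfsg.Agent.H459.Rad Cfsg.Agent.H459.Iface Cfsg.Agent.H301.SY Cfsg.Agent.H454.SY
open Cfsg.Agent.H813.RadCo1 Cfsg.Agent.H813.CoSevenMain
open Cfsg.Agent.SporadicA.Co0Mono
open Cfsg.Agent.H839.Rad (rc_conj mem_rad)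
open Cfsg.Agent.KFacts.Co1D4
open Cfsg.Agent.H454.SYCoOne (simple_co1 card_co1 lw_m24 lw_thirteen primes cyc)
open Cfsg.Agent.H959.T5 (NoTE NoTE.of_lw)

theorem five : NoTE 5 Spor.Co1 := by
  intro x hx hR _
  obtain ⟨t, ht, hxt⟩ := exists_inv_five hx
  exact false_of_inv Nat.prime_five (by norm_num) hx (RE.rc hR) ht hxt

theorem seven : NoTE 7 Spor.Co1 := by
  intro x hx hR _
  have h := RE.rc hR
  have hp : Nat.Prime 7 := by norm_num
  have : Fact (Nat.Prime 7) := ⟨hp⟩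
  -- a conjugate commutes with `pp`
  obtain ⟨x', hx', h', hc⟩ : ∃ x' : Spor.Co1, orderOf x' = 7 ∧ RC (MulAut.conj x') ∧ x' * pp = pp * x' := by
    have h1 : IsPGroup 7 ↥(zpowers x) := IsPGroup.of_card (n := 1) (by rw [Nat.card_zpowers, hx, pow_one])
    have h2 : IsPGroup 7 ↥(zpowers pp) := IsPGroup.of_card (n := 1) (by rw [Nat.card_zpowers, order_pp, pow_one])
    obtain ⟨P, hP⟩ := h1.exists_le_sylow
    obtain ⟨P', hP'⟩ := h2.exists_le_sylow
    obtain ⟨g, hg⟩ := MulAction.exists_smul_eq Spor.Co1 P P'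
    have h3 : g * x * g⁻¹ ∈ (P' : Subgroup Spor.Co1) := by
      rw [← hg, Sylow.coe_subgroup_smul]
      exact smul_mem_pointwise_smul x (MulAut.conj g) _ (hP (mem_zpowers x))
    refine ⟨g * x * g⁻¹, by rw [← MulAut.conj_apply, MulEquiv.orderOf_eq, hx], rc_conj h g, ?_⟩
    have h4 : Nat.card ↥(P' : Subgroup Spor.Co1) ∣ 7 ^ 2 := by
      obtain ⟨n, hn⟩ := IsPGroup.iff_card.1 P'.isPGroup'
      have h5 : 7 ^ n ∣ Nat.card Spor.Co1 := hn ▸ card_subgroup_dvd_card _
      rw [card_co1] at h5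
      have h6 : n ≤ 2 := by
        by_contra h7
        have h8 : 7 ^ 3 ∣ 4157776806543360000 := (pow_dvd_pow 7 (by omega : 3 ≤ n)).trans h5
        revert h8
        norm_num
      rw [hn]
      exact pow_dvd_pow 7 h6
    have h5 := Cfsg.Agent.H813.CoSevenCard.comm_of_le hp h4 ⟨_, h3⟩ ⟨pp, hP' (mem_zpowers pp)⟩
    exact congrArg Subtype.val h5
  -- it centralizes `BB`
  have hBt : BB ≠ ⊤ := by
    intro h1
    have h2 := card_BB
    rw [h1, Subgroup.card_top, card_co1] at h2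
    norm_num at h2
  have hcm : ∀ m ∈ BB, MulAut.conj x' m ∈ BB := fun m hm =>
    conj_mem_of_card BB_le BB_center (by rw [order_pp, card_BB]; exact card_cent_pp) hc hm
  have hrad : solvableRadical ↥BB = ⊥ := by
    refine rad_eq_bot_of_simple fun h1 => BB_not_comm ⟨⟨IsSimpleGroup.comm_iff_isSolvable.2 h1⟩⟩
  obtain ⟨t, ht⟩ := exists_prime_orderOf_dvd_card' 2 (show 2 ∣ Nat.card ↥BB by rw [card_BB]; norm_num)
  have h2 := h'.eq_of_rad_eq_bot hBt hcm hrad t.2
  rw [MulAut.conj_apply, mul_inv_eq_iff_eq_mul] at h2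
  exact false_of_inv hp (by norm_num) hx' h' (t := t) (by rw [Subgroup.orderOf_coe, ht]) h2

theorem all {p : ℕ} [hp : Fact p.Prime] (hp5 : 5 ≤ p) : NoTE p Spor.Co1 := by
  by_cases hd : p ∣ 4157776806543360000
  · rcases primes hp.out hd with rfl | rfl | rfl | rfl | rfl | rfl | rfl
    · omega
    · omega
    · exact five
    · exact seven
    · exact NoTE.of_lw (cyc (by norm_num)) (lw_m24 (by norm_num))
    · exact NoTE.of_lw (cyc (by norm_num)) lw_thirteen
    · exact NoTE.of_lw (cyc (by norm_num)) (lw_m24 (by norm_num))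
  · intro x hx _ _
    apply hd
    rw [← card_co1, ← hx]
    exact orderOf_dvd_natCard x

/-- **The row `Co1`.** -/
theorem noTE_co1 {K : Type*} [Group K] [Finite K] [IsSimpleGroup K] (h : Cfsg.Spor.IsoCo1 K) {p : ℕ} [Fact p.Prime]
    (hp : 5 ≤ p) (_hb : Cfsg.Agent.H301.SY.Blk p K) (_hO : Cfsg.Agent.H301.SY.ThO p K) :
    Cfsg.Agent.H959.T5.NoTE p K := by
  obtain ⟨e⟩ := h
  exact Cfsg.Agent.H959.T5.NoTE.congr e (all hp)

end Cfsg.Agent.H352.NoTECoOne
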