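import Cfsg.Agent.H377.DegSolv.Two
import Cfsg.Agent.H559.CoreA
import Cfsg.Agent.H670.Palfy.Five

/-!
# The pentagon is not the degree graph of a solvable group: `stepA`, `penta1`, `penta2a` (helper352)

Plan of helper670 (DEGSOLV 8, part 1 + 2a).
-/

set_option autoImplicit false
set_option linter.unusedSectionVars false
set_option linter.style.haveILetI false

namespace Cfsg.Agent.H352.Penta

open Cfsg Cfsg.Agent.H670.Palfy Cfsg.Agent.H377.DegSolv Cfsg.Agent.H672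

universe u v

section abstract

variable {H : Type u} {V : Type v} [Group H] [AddCommGroup V] [DistribMulAction H V] [Finite H] [Finite V]

/-- If `b` divides neither `|H : C|` nor `|C : K|` and no element of `D` is divisible by `a` and `b`, where `a` has the
unique fixing property and is nontrivial, then the Sylow `b`-subgroups are normal, commutative and act trivially. -/
theorem half (hH : Group.IsSolvable H) {C : Subgroup H} {l n : ℕ} (hC : SLD H V C l n) {D : Set ℕ}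
    (hD : charDegrees H ⊆ D) {k : ℕ} (hc : Cfg D H V k) {a b : ℕ} [ha : Fact a.Prime] [hb : Fact b.Prime]
    (hbC : ¬ b ∣ C.index) (hbc : ¬ b ∣ (Ker H V).relIndex C) (hab : ∀ e ∈ D, a ∣ e → b ∣ e → False)
    (huf : UF a H (⊥ : AddSubgroup V)) (hA : ∀ A : Sylow a H, ¬ Triv V (A : Subgroup H)) (Y : Sylow b H) :
    (Y : Subgroup H).Normal ∧ (∀ x ∈ (Y : Subgroup H), ∀ y ∈ (Y : Subgroup H), x * y = y * x) ∧
      (Y : Subgroup H) ≤ Ker H V := by
  have hi : ¬ b ∣ (Ker H V).index := by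
    rw [← Subgroup.relIndex_mul_index hC.ker]
    intro h
    rcases (Nat.Prime.dvd_mul hb.out).1 h with h | h
    · exact hbc h
    · exact hbC h
  refine sylow_of_normal hH (Ker H V) hi ?_ Y
  rintro e ⟨⟨ν, hν⟩, rfl⟩ hbe
  obtain ⟨A⟩ : Nonempty (Sylow a H) := inferInstance
  refine H559.CoreA.coreA hC huf A (hA A) ν hν ?_ ?_
  · intro ψ hψ ho hd
    exact hab _ (hD ⟨⟨ψ, hψ⟩, rfl⟩) hd (hbe.trans (charDegree_dvd_of_over (Ker H V) hψ hν ho).1)
  · intro v hv ψ hψ ho hd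
    have hn : (Subgroup.inclusion (H559.CoreA.hKle v : Ker H V ≤ MulAction.stabilizer H v)).range.Normal := by
      have h1 : (Subgroup.inclusion (H559.CoreA.hKle v : Ker H V ≤ MulAction.stabilizer H v)).range =
          (Ker H V).subgroupOf (MulAction.stabilizer H v) := Subgroup.inclusion_range _
      rw [h1]
      exact (inferInstance : (Ker H V).Normal).subgroupOf _
    have h1 := (charDegree_dvd_of_over_hom _ (Subgroup.inclusion_injective _) hn hψ hν ho).1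
    obtain ⟨e, he, hde, -⟩ := hc v hv _ ⟨⟨ψ, hψ⟩, rfl⟩
    exact hab e he (hd.trans hde) ((hbe.trans (h1.trans (Dvd.intro_left _ rfl))).trans hde)

/-- **Step A.** -/
theorem stepA (hSL : FactSL.{u, v}) (hH : Group.IsSolvable H) {l n k q s u r : ℕ} (hl : l.Prime) (hn : 0 < n)
    (hV : Nat.card V = l ^ n) (hirr : Irr H V) {D : Set ℕ} (hD : charDegrees H ⊆ D) (hc : Cfg D H V k)
    (hq : q.Prime) (hs : s.Prime) (hu : u.Prime) (hr : r.Prime) (hqr : q ≠ r)
    (hqs : ∀ e ∈ D, q ∣ e → s ∣ e → False) (hsu : ∀ e ∈ D, s ∣ e → u ∣ e → False)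
    (hur : ∀ e ∈ D, u ∣ e → r ∣ e → False)
    (hufq : UF q H (⊥ : AddSubgroup V)) (hufr : UF r H (⊥ : AddSubgroup V))
    (hQ : ∀ Q : Sylow q H, ¬ Triv V (Q : Subgroup H)) (hR : ∀ R : Sylow r H, ¬ Triv V (R : Subgroup H)) :
    (∀ Y : Sylow s H, (Y : Subgroup H).Normal ∧
      (∀ a ∈ (Y : Subgroup H), ∀ b ∈ (Y : Subgroup H), a * b = b * a) ∧ Triv V (Y : Subgroup H)) ∨
    (∀ Y : Sylow u H, (Y : Subgroup H).Normal ∧
      (∀ a ∈ (Y : Subgroup H), ∀ b ∈ (Y : Subgroup H), a * b = b * a) ∧ Triv V (Y : Subgroup H)) := by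
  haveI : Fact q.Prime := ⟨hq⟩
  haveI : Fact s.Prime := ⟨hs⟩
  haveI : Fact u.Prime := ⟨hu⟩
  haveI : Fact r.Prime := ⟨hr⟩
  obtain ⟨Q⟩ : Nonempty (Sylow q H) := inferInstance
  obtain ⟨R⟩ : Nonempty (Sylow r H) := inferInstance
  obtain ⟨C, hC⟩ : ∃ C : Subgroup H, SLD H V C l n := by
    by_cases hql : q = l
    · exact hSL H V l n r hH hl hn hV hirr hr (fun h => hqr (hql.trans h.symm)) hufr ⟨R, hR R⟩
    · exact hSL H V l n q hH hl hn hV hirr hq hql hufq ⟨Q, hQ Q⟩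
  have hqC := (hC.uf q hq hufq Q (hQ Q)).1
  have hrC := (hC.uf r hr hufr R (hR R)).1
  have hCD := hD hC.deg
  have hsC : ¬ s ∣ C.index := fun h => hqs _ hCD hqC h
  have huC : ¬ u ∣ C.index := fun h => hur _ hCD h hrC
  haveI := nontrivial_of_card hl hn hV
  obtain ⟨v, hv⟩ := exists_ne (0 : V)
  obtain ⟨e, he, hde, -⟩ := hc v hv 1 H681.DegBasic.one_mem
  rw [mul_one] at hde
  have hce := (hC.stab v hv).trans hde
  by_cases hsc : s ∣ (Ker H V).relIndex C
  · right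
    intro Y
    have huc : ¬ u ∣ (Ker H V).relIndex C := fun h => hsu e he (hsc.trans hce) (h.trans hce)
    obtain ⟨h1, h2, h3⟩ := half hH hC hD hc huC huc (fun e he h1 h2 => hur e he h2 h1) hufr hR Y
    exact ⟨h1, h2, fun z hz => h3 hz⟩
  · left
    intro Y
    obtain ⟨h1, h2, h3⟩ := half hH hC hD hc hsC hsc hqs hufq hQ Y
    exact ⟨h1, h2, fun z hz => h3 hz⟩

end abstract

section

variable {p q s u r : ℕ} {G : Type u} [Group G]

theorem ne_all (h : Five p q s u r G) :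
    p ≠ q ∧ p ≠ s ∧ p ≠ u ∧ p ≠ r ∧ q ≠ s ∧ q ≠ u ∧ q ≠ r ∧ s ≠ u ∧ s ≠ r ∧ u ≠ r := by
  have := h.nd
  simp only [List.nodup_cons, List.mem_cons, List.not_mem_nil, or_false, not_or] at this
  tauto

end

theorem bot_ne_top' {V : Type v} [AddCommGroup V] [Nontrivial V] : (⊥ : AddSubgroup V) ≠ ⊤ := bot_ne_top

/-- The kernel of `SW P Y` is contained in the kernel of `V`. -/
theorem ker_SW_le {G : Type u} [Group G] {M P : Subgroup G} [M.Normal] [P.Normal] {H : Subgroup G} {y : ℕ}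
    (Y : Sylow y H) (hY : (Y : Subgroup H).Normal)
    (h : ∀ h : H, (∀ w ∈ com (LC P) (Y : Subgroup H), h • w = w) → ∀ v : LC M, h • v = v) :
    Ker H (SW P Y hY) ≤ Ker H (LC M) := by
  intro x hx
  refine h x fun w hw => ?_
  exact congrArg Sub.val (hx (H670.Palfy.Sub.mk (inv_com (V := LC P) (Y : Subgroup H) hY) w hw))

/-- **Configuration 1.** -/
theorem penta1 (hSL : FactSL.{u, u}) : Penta1.{u} := by
  intro G _ _ hG M _ H p q s u r h5 h
  obtain ⟨l, n, hl, hlp, hn, hV⟩ := h.card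
  haveI : Finite (LC M) := Nat.finite_of_card_ne_zero (by rw [hV]; exact (Nat.pow_pos hl.pos).ne')
  haveI hVn := nontrivial_of_card hl hn hV
  have hH : Group.IsSolvable H := inferInstance
  obtain ⟨hpq, hps, hpu, hpr, hqs, hqu, hqr, hsu, hsr, hur⟩ := ne_all h5
  have key : ∀ x : ℕ, x.Prime → Rho x G → NA p x G →
      UF x H (⊥ : AddSubgroup (LC M)) ∧ ∀ X : Sylow x H, ¬ Triv (LC M) (X : Subgroup H) := by
    intro x hx hrho hna
    haveI : Fact x.Prime := ⟨hx⟩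
    have huf : UF x H (⊥ : AddSubgroup (LC M)) := uf_of_cfg hH h.cfg hna
    refine ⟨huf, fun X hX => ?_⟩
    exact h.nt x hx hrho X (huf.normal_of_triv bot_ne_top hX) (comm_of_cfg hH h.cfg hna hVn X) hX
  obtain ⟨hufq, hQ⟩ := key q h5.hq h5.rq h5.pq
  obtain ⟨hufr, hR⟩ := key r h5.hr h5.rr (na_symm h5.rrp)
  rcases stepA hSL hH hl hn hV h.irr h.cd h.cfg h5.hq h5.hs h5.hu h5.hr hqr h5.qs h5.su h5.ur hufq hufr hQ hR with
    h1 | h1
  · haveI : Fact s.Prime := ⟨h5.hs⟩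
    obtain ⟨Y⟩ : Nonempty (Sylow s H) := inferInstance
    obtain ⟨h2, h3, h4⟩ := h1 Y
    exact h.nt s h5.hs h5.rs Y h2 h3 h4
  · haveI : Fact u.Prime := ⟨h5.hu⟩
    obtain ⟨Y⟩ : Nonempty (Sylow u H) := inferInstance
    obtain ⟨h2, h3, h4⟩ := h1 Y
    exact h.nt u h5.hu h5.ru Y h2 h3 h4

/-- **Configuration 2, `q` and `r` nontrivial on `V`.** -/
theorem penta2a (hSL : FactSL.{u, u}) : Penta2a.{u} := by
  intro G _ _ hG M P _ _ H p q s u r h5 h hM' hQ hR
  have hp := h5.hp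
  obtain ⟨n, hn, hV⟩ := h.card
  haveI := finite_V hp h
  haveI := finite_W hp h
  haveI hVn := nontrivial_of_card hp hn hV
  have hH : Group.IsSolvable H := inferInstance
  -- the case of `u`
  have key : ∀ q s u r : ℕ, Five p q s u r G → (∀ Q : Sylow q H, ¬ Triv (LC M) (Q : Subgroup H)) →
      (∀ Y : Sylow u H, (Y : Subgroup H).Normal ∧
        (∀ a ∈ (Y : Subgroup H), ∀ b ∈ (Y : Subgroup H), a * b = b * a) ∧ Triv (LC M) (Y : Subgroup H)) →
      False := by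
    intro q s u r h5 hQ hU
    obtain ⟨hpq, hps, hpu, hpr, hqs, hqu, hqr, hsu, hsr, hur⟩ := ne_all h5
    haveI : Fact q.Prime := ⟨h5.hq⟩
    haveI : Fact s.Prime := ⟨h5.hs⟩
    haveI : Fact u.Prime := ⟨h5.hu⟩
    obtain ⟨U⟩ : Nonempty (Sylow u H) := inferInstance
    obtain ⟨hUn, hUc, hUV⟩ := hU U
    have hUW : ¬ Triv (LC P) (U : Subgroup H) := h.nt u h5.hu hpu.symm h5.ru U hUn hUc
    have hK : Ker H (SW P U hUn) ≤ Ker H (LC M) := by
      rcases h.ker_or u h5.hu hpu.symm U hUn hUV hUW with h1 | ⟨M', h1, h2, h3⟩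
      · exact ker_SW_le U hUn h1
      · exact (hM' M' h1 h2 h3).elim
    obtain ⟨m, C, hm, hcard, hC, hufs, hnts, -, -, hCd⟩ :=
      factB hSL hG hp h hpu.symm hps.symm (na_symm h5.su) h5.rs U hUn hUW
    obtain ⟨S⟩ : Nonempty (Sylow s H) := inferInstance
    have hsC : s ∣ C.index := (hC.uf s h5.hs hufs S (hnts S)).1
    obtain ⟨Q⟩ : Nonempty (Sylow q H) := inferInstance
    exact hQ Q (hC.triv (fun h3 => h5.qs _ hCd h3 hsC) hK (uf_of_cfg hH h.cfgV h5.pq) Q)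
  haveI : Fact q.Prime := ⟨h5.hq⟩
  haveI : Fact r.Prime := ⟨h5.hr⟩
  obtain ⟨hpq, hps, hpu, hpr, hqs, hqu, hqr, hsu, hsr, hur⟩ := ne_all h5
  have hufq : UF q H (⊥ : AddSubgroup (LC M)) := uf_of_cfg hH h.cfgV h5.pq
  have hufr : UF r H (⊥ : AddSubgroup (LC M)) := uf_of_cfg hH h.cfgV (na_symm h5.rrp)
  rcases stepA hSL hH hp hn hV h.irr h.cd h.cfgV h5.hq h5.hs h5.hu h5.hr hqr h5.qs h5.su h5.ur hufq hufr hQ hR with
    h1 | h1
  · exact key r u s q h5.symm hR h1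
  · exact key q s u r h5 hQ h1

end Cfsg.Agent.H352.Penta
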