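import Cfsg.Agent.H200.LinFixE

/-!
# S3588 L6: the tori centralising an isometry of prime order (helper352)
-/

set_option autoImplicit false
set_option linter.unusedSectionVars false

namespace Cfsg.Agent.H352.Tor

open Module Polynomial Cfsg.Agent.H200.LinFix

variable {F V : Type*} [Field F] [AddCommGroup V] [Module F V] {b : LinearMap.BilinForm F V} [Finite V]
variable {l : ℕ} [hl : Fact l.Prime]

/-- The even class: `R y` of dimension `2 d`, irreducible. -/
theorem tor_even [Finite F] (hl2 : l ≠ 2) (hlF : (l : F) ≠ 0) {y : Module.End F V} (hy : y ^ l = 1) (hyb : Isom b y)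
    (hb : ∀ v, (∀ u, b u v = 0) → v = 0) {d : ℕ} (hd1 : 1 ≤ d) (hd : Ordd l (Nat.card F) (2 * d))
    (hfr : finrank F (R y) = 2 * d) {s : Module.End F V} (hsb : Isom b s) (hsy : s * y = y * s) :
    ∀ w ∈ R y, (s ^ (Nat.card F ^ d + 1)) w = w := by
  have hfd : FiniteDimensional F V := inferInstance
  have hyW : ∀ w ∈ R y, y w ∈ R y := fun w hw => R_inv rfl hw
  have hsW : ∀ w ∈ R y, s w ∈ R y := fun w hw => R_inv hsy hw
  have hsy' : ∀ w, s (y w) = y (s w) := fun w => LinearMap.congr_fun hsy w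
  have hW : R y ≠ ⊥ := by
    intro h
    rw [h, finrank_bot] at hfr
    omega
  have hirr : Irr y (R y) := irr_of_lt hd hlF hy le_rfl hyW (by omega)
  obtain ⟨w, hw, hw0⟩ := Submodule.exists_mem_ne_zero_of_ne_bot hW
  obtain ⟨m, hm, hU⟩ := unitary_on (l := l - 1) hW hyW hirr b (fun u _ v _ => hyb u v)
    (fun v hv hv' => nondeg_R hyb hb hy hlF hv hv')
    (by rw [Nat.sub_add_cancel hl.out.one_le, hy])
    ⟨w, hw, fun h1 => hw0 (eq_zero_of_mem hy hlF (fix_of_sq hl2 hy h1) hw)⟩
  have hmd : m = d := by omega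
  subst hmd
  exact hU s hsW (fun w _ => hsy' w) (fun u _ v _ => hsb u v)

/-- An invariant complement (Maschke). -/
theorem exists_compl (hlF : (l : F) ≠ 0) {y : Module.End F V} (hy : y ^ l = 1) {E W : Submodule F V}
    (hE : ∀ w ∈ E, y w ∈ E) (hW : ∀ w ∈ W, y w ∈ W) (hEW : E ≤ W) :
    ∃ C : Submodule F V, C ≤ W ∧ (∀ w ∈ C, y w ∈ C) ∧ E ⊓ C = ⊥ ∧ E ⊔ C = W := by
  have hfd : FiniteDimensional F V := inferInstance
  have hsq : Squarefree (X ^ l - 1 : F[X]) := (X_pow_sub_one_separable_iff.2 hlF).squarefree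
  have hae : aeval y (X ^ l - 1 : F[X]) = 0 := by
    rw [map_sub, map_pow, aeval_X, map_one, hy, sub_self]
  have hss : y.IsSemisimple := Module.End.isSemisimple_of_squarefree_aeval_eq_zero hsq hae
  have hfs : y.IsFinitelySemisimple := Module.End.isFinitelySemisimple_iff_isSemisimple.2 hss
  rw [Module.End.isFinitelySemisimple_iff] at hfs
  obtain ⟨C, hC, hCy, hdis, hsup⟩ := hfs W ((Module.End.mem_invtSubmodule_iff_forall_mem_of_mem y).2 hW) inferInstance E
    ((Module.End.mem_invtSubmodule_iff_forall_mem_of_mem y).2 hE) hEW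
  exact ⟨C, hC, (Module.End.mem_invtSubmodule_iff_forall_mem_of_mem y).1 hCy, disjoint_iff.1 hdis, hsup⟩

theorem isom_inj (hb : ∀ v, (∀ u, b u v = 0) → v = 0) {s : Module.End F V} (hsb : Isom b s) :
    Function.Injective s := by
  rw [← LinearMap.ker_eq_bot, LinearMap.ker_eq_bot']
  intro v hv
  apply hb
  intro u
  rw [← hsb, hv, map_zero]

/-- The odd class: `R y` of dimension `2 d`, `d` odd, the sum of two dual irreducible modules. -/
theorem tor_odd [Finite F] (hl2 : l ≠ 2) (hlF : (l : F) ≠ 0) {y : Module.End F V} (hy : y ^ l = 1) (hyb : Isom b y)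
    (hb : ∀ v, (∀ u, b u v = 0) → v = 0) {d : ℕ} (hd : Ordd l (Nat.card F) d) (hld : l ∣ Nat.card F ^ d - 1)
    (hdo : Odd d) (hfr : finrank F (R y) = 2 * d) {s : Module.End F V} (hsb : Isom b s) (hsy : s * y = y * s) :
    ∀ w ∈ R y, (s ^ (Nat.card F ^ d - 1)) w = w := by
  have hfd : FiniteDimensional F V := inferInstance
  have hd0 : 0 < d := hdo.pos
  have hyW : ∀ w ∈ R y, y w ∈ R y := fun w hw => R_inv rfl hw
  have hsW : ∀ w ∈ R y, s w ∈ R y := fun w hw => R_inv hsy hw
  have hsy' : ∀ w, s (y w) = y (s w) := fun w => LinearMap.congr_fun hsy w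
  have hW : R y ≠ ⊥ := by
    intro h
    rw [h, finrank_bot] at hfr
    omega
  have hsinj : Function.Injective s := isom_inj hb hsb
  have hq1 : 1 ≤ Nat.card F ^ d := Nat.one_le_pow _ _ Nat.card_pos
  -- a proper invariant subspace
  obtain ⟨E, hEW, hyE, hE0, hEne⟩ : ∃ E : Submodule F V, E ≤ R y ∧ (∀ w ∈ E, y w ∈ E) ∧ E ≠ ⊥ ∧ E ≠ R y := by
    by_contra hcon
    push Not at hcon
    have hirr : Irr y (R y) := fun U hU hyU => by
      by_cases h : U = ⊥
      · exact Or.inl h
      · exact Or.inr (hcon U hU hyU h)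
    obtain ⟨w, hw, hw0⟩ := Submodule.exists_mem_ne_zero_of_ne_bot hW
    obtain ⟨m, hm, hU⟩ := unitary_on (l := l - 1) hW hyW hirr b (fun u _ v _ => hyb u v)
      (fun v hv hv' => nondeg_R hyb hb hy hlF hv hv')
      (by rw [Nat.sub_add_cancel hl.out.one_le, hy])
      ⟨w, hw, fun h1 => hw0 (eq_zero_of_mem hy hlF (fix_of_sq hl2 hy h1) hw)⟩
    have hmd : m = d := by omega
    subst hmd
    apply hw0
    refine eq_zero_of_mem hy hlF ?_ hw
    refine fix_of_coprime (hU y hyW (fun w _ => rfl) (fun u _ v _ => hyb u v) w hw)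
      (by rw [hy]; rfl) ?_
    refine ((Nat.Prime.coprime_iff_not_dvd hl.out).2 fun h => ?_).symm
    apply hl2
    have h3 : l ∣ 2 := by
      have h4 : Nat.card F ^ m + 1 - (Nat.card F ^ m - 1) = 2 := by omega
      rw [← h4]
      exact Nat.dvd_sub h hld
    exact (Nat.prime_dvd_prime_iff_eq hl.out Nat.prime_two).1 h3
  have hEd : finrank F E = d := by
    obtain ⟨c, hc⟩ := dvd_finrank_le hd hlF hy hEW hyE
    have h1 : finrank F E < finrank F (R y) := Submodule.finrank_lt_finrank_of_lt (lt_of_le_of_ne hEW hEne)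
    have h2 : finrank F E ≠ 0 := fun h => hE0 (Submodule.finrank_eq_zero.1 h)
    have h3 : c < 2 := by
      by_contra h
      push Not at h
      nlinarith
    interval_cases c <;> omega
  have hirr : Irr y E := irr_of_lt hd hlF hy hEW hyE (by omega)
  have hnotEven : ¬ Even (finrank F E) := by rw [hEd]; exact Nat.not_even_iff_odd.2 hdo
  -- totally isotropic
  have hti : ∀ v ∈ E, ∀ u ∈ E, b u v = 0 := by
    rcases rad_of_irr hy hyb hyE hirr with h | h
    · exact absurd (even_of_irr hl2 hlF hy hEW hyE hirr hE0 b (fun u _ v _ => hyb u v) h) hnotEven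
    · exact h
  -- `E` is `s`-invariant
  have hsE : ∀ w ∈ E, s w ∈ E := by
    have hE'y : ∀ w ∈ E.map s, y w ∈ E.map s := by
      rintro _ ⟨w, hw, rfl⟩
      exact ⟨y w, hyE w hw, hsy' w⟩
    have hE'd : finrank F (E.map s) = d := by
      rw [← hEd]
      exact (Submodule.equivMapOfInjective s hsinj E).symm.finrank_eq
    have hE'W : E.map s ≤ R y := by
      rintro _ ⟨w, hw, rfl⟩
      exact hsW w (hEW hw)
    rcases hirr (E ⊓ E.map s) inf_le_left (fun u hu => ⟨hyE u hu.1, hE'y u hu.2⟩) with h | h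
    · exfalso
      have hsup : E ⊔ E.map s = R y := by
        apply Submodule.eq_of_le_of_finrank_le (sup_le hEW hE'W)
        have h1 := Submodule.finrank_sup_add_finrank_inf_eq E (E.map s)
        rw [h, finrank_bot, hE'd, hEd] at h1
        omega
      apply hnotEven
      refine even_of_irr hl2 hlF hy hEW hyE hirr hE0 (b.compRight s) (fun u _ v _ => ?_) ?_
      · rw [LinearMap.BilinForm.compRight_apply, LinearMap.BilinForm.compRight_apply, hsy', hyb]
      · intro v hv hv'
        apply hsinj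
        rw [map_zero]
        refine nondeg_R hyb hb hy hlF (hsW v (hEW hv)) fun u hu => ?_
        rw [← hsup] at hu
        obtain ⟨u1, hu1, u2, ⟨u3, hu3, rfl⟩, rfl⟩ := Submodule.mem_sup.1 hu
        rw [map_add, LinearMap.add_apply, hsb, hti v hv u3 hu3, add_zero]
        exact hv' u1 hu1
    · intro w hw
      have h1 : E = E.map s := Submodule.eq_of_le_of_finrank_eq (by
        intro x hx
        have h2 : x ∈ E ⊓ E.map s := by rw [h]; exact hx
        exact h2.2) (by rw [hE'd, hEd])
      rw [h1]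
      exact ⟨w, hw, rfl⟩
  -- `s ^ (q ^ d - 1)` is trivial on `E`
  set N := Nat.card F ^ d - 1 with hN
  have hsN : ∀ w ∈ E, (s ^ N) w = w := by
    have hn : Nontrivial E := Submodule.nontrivial_iff_ne_bot.2 hE0
    have hnt : Nontrivial (Module.End F E) := Module.End.instNontrivial
    have h1 := pow_card_sub_one (g := y.restrict hyE) (hirr.restrict hyE) (s := s.restrict hsE)
      (by ext ⟨v, hv⟩; exact hsy' v)
      (by
        intro h0
        obtain ⟨w, hw, hw0⟩ := Submodule.exists_mem_ne_zero_of_ne_bot hE0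
        apply hw0
        apply hsinj
        rw [map_zero]
        exact congrArg Subtype.val (LinearMap.congr_fun h0 ⟨w, hw⟩))
    have h2 : Nat.card E = Nat.card F ^ d := by rw [Module.natCard_eq_pow_finrank (K := F), hEd]
    have h3 : ∀ (n : ℕ) (v : E), ((((s.restrict hsE) ^ n) v : E) : V) = (s ^ n) v := by
      intro n
      induction n with
      | zero => intro v; rfl
      | succ n ih => intro v; rw [pow_succ, pow_succ, Module.End.mul_apply, Module.End.mul_apply, ih]; rfl
    intro w hw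
    rw [hN, ← h2]
    have h4 := congrArg Subtype.val (LinearMap.congr_fun h1 ⟨w, hw⟩)
    rw [h3] at h4
    exact h4
  have hsNb : ∀ (n : ℕ) (u v : V), b ((s ^ n) u) ((s ^ n) v) = b u v := by
    intro n
    induction n with
    | zero => intro u v; rfl
    | succ n ih => intro u v; rw [pow_succ, Module.End.mul_apply, Module.End.mul_apply, ih, hsb]
  have hsNy : ∀ w, (s ^ N) (y w) = y ((s ^ N) w) := by
    have h1 : s ^ N * y = y * s ^ N := (Commute.pow_left (show Commute s y from hsy) N)
    exact fun w => LinearMap.congr_fun h1 w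
  have hsNW : ∀ (n : ℕ), ∀ w ∈ R y, (s ^ n) w ∈ R y := fun n => pow_inv_mem hsW n
  -- the complement
  obtain ⟨C, hCW, hyC, hinf, hsup⟩ := exists_compl hlF hy hyE hyW hEW
  have hCd : finrank F C = d := by
    have h1 := Submodule.finrank_sup_add_finrank_inf_eq E C
    rw [hinf, hsup, finrank_bot, hEd, hfr] at h1
    omega
  have hC0 : C ≠ ⊥ := by
    intro h
    rw [h, finrank_bot] at hCd
    omega
  have hirrC : Irr y C := irr_of_lt hd hlF hy hCW hyC (by omega)
  set f : Module.End F V := s ^ N - 1 with hf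
  have hfa : ∀ w, f w = (s ^ N) w - w := fun w => rfl
  have hfy : ∀ w, f (y w) = y (f w) := by
    intro w
    rw [hfa, hfa, map_sub, hsNy]
  have hfW : ∀ w ∈ R y, f w ∈ R y := fun w hw => by
    rw [hfa]; exact Submodule.sub_mem _ (hsNW N w hw) hw
  rcases zero_or_inj (a := f) hirrC hyC (fun w _ => hfy w) with h | h
  · intro w hw
    rw [← hsup] at hw
    obtain ⟨e, he, c, hc, rfl⟩ := Submodule.mem_sup.1 hw
    have h1 := h c hc
    rw [hfa, sub_eq_zero] at h1
    rw [map_add, hsN e he, h1]
  · exfalso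
    have hev : Even (finrank F C) := by
      refine even_of_irr hl2 hlF hy hCW hyC hirrC hC0 (b.compRight f) (fun u _ v _ => ?_) ?_
      · rw [LinearMap.BilinForm.compRight_apply, LinearMap.BilinForm.compRight_apply, hfy, hyb]
      · intro v hv hv'
        apply h v hv
        refine nondeg_R hyb hb hy hlF (hfW v (hCW hv)) fun u hu => ?_
        rw [← hsup] at hu
        obtain ⟨e, he, c, hc, rfl⟩ := Submodule.mem_sup.1 hu
        have h1 := hv' c hc
        rw [LinearMap.BilinForm.compRight_apply] at h1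
        rw [map_add, LinearMap.add_apply, h1, add_zero, hfa, map_sub, sub_eq_zero]
        nth_rewrite 1 [← hsN e he]
        rw [hsNb]
    rw [hCd] at hev
    exact (Nat.not_even_iff_odd.2 hdo) hev

end Cfsg.Agent.H352.Tor
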