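import Cfsg.Agent.H370.DP.Def2
import Cfsg.Agent.SignalizersComponents.InvariantHall
import Cfsg.Agent.SolvableStructure.MinNonNilpotent
import Cfsg.Agent.OddOrderLocal.CNBasic
import Cfsg.Agent.S0033

/-!
# Prime divisors of a solvable group and element orders (helper352, for S3624)
-/

set_option autoImplicit false

namespace Cfsg.Agent.H352.Zhang

open Cfsg.Agent.H370.DP

universe u

/-- a nilpotent group has an element whose order is divisible by all prime divisors of the order -/
theorem ind_of_nilpotent {D : Type*} [Group D] [Finite D] (hD : Group.IsNilpotent D) (T : Finset ℕ)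
    (hT : ∀ q ∈ T, q.Prime ∧ q ∣ Nat.card D) : ∃ g : D, orderOf g = ∏ q ∈ T, q := by
  classical
  induction T using Finset.induction_on with
  | empty => exact ⟨1, by simp⟩
  | insert q T hq ih =>
    obtain ⟨g, hg⟩ := ih fun r hr => hT r (Finset.mem_insert_of_mem hr)
    obtain ⟨hqp, hqd⟩ := hT q (Finset.mem_insert_self q T)
    have : Fact q.Prime := ⟨hqp⟩
    obtain ⟨x, hx⟩ := exists_prime_orderOf_dvd_card' q hqd
    have hcop : (orderOf x).Coprime (orderOf g) := by
      rw [hx, hg]
      refine Nat.Coprime.prod_right fun r hr => ?_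
      exact (Nat.coprime_primes hqp (hT r (Finset.mem_insert_of_mem hr)).1).2 (by rintro rfl; exact hq hr)
    have hc : Commute x g := OddOrderLocal.CNBasic.commute_of_coprime_orderOf hcop
    refine ⟨x * g, ?_⟩
    rw [hc.orderOf_mul_eq_mul_orderOf_of_coprime hcop, hx, hg, Finset.prod_insert hq]

/-- an element `x` of prime order normalizing `D` with `C_D(x) = 1`: `D` is nilpotent -/
theorem nilpotent_of_fpf {H : Type*} [Group H] [Finite H] {D : Subgroup H} {x : H} {t : ℕ} (ht : t.Prime)
    (hx : orderOf x = t) (hn : ∀ d ∈ D, x * d * x⁻¹ ∈ D) (hf : ∀ d ∈ D, x * d = d * x → d = 1) :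
    Group.IsNilpotent D := by
  have hxn : x ∈ Subgroup.normalizer (D : Set H) := by
    have h1 : D.map (MulAut.conj x).toMonoidHom ≤ D := by
      rintro _ ⟨d, hd, rfl⟩
      exact hn d hd
    have h2 : D.map (MulAut.conj x).toMonoidHom = D := by
      apply Subgroup.eq_of_le_of_card_ge h1
      rw [Subgroup.card_map_of_injective (MulAut.conj x).injective]
    rw [Subgroup.mem_normalizer_iff]
    intro d
    constructor
    · exact fun hd => hn d hd
    · intro hd
      have h3 : x * d * x⁻¹ ∈ D.map (MulAut.conj x).toMonoidHom := by rw [h2]; exact hd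
      obtain ⟨e, he, h4⟩ := h3
      have h5 : x * e * x⁻¹ = x * d * x⁻¹ := h4
      have h6 : e = d := by
        have := mul_right_cancel h5
        exact mul_left_cancel this
      rwa [← h6]
  let φ : D ≃* D := Subgroup.normalizerMonoidHom D ⟨x, hxn⟩
  have hφ : ∀ d : D, ((φ d : D) : H) = x * d * x⁻¹ := fun d => rfl
  by_cases h1 : D = ⊥
  · subst h1
    infer_instance
  · have hfp : MonoidHom.FixedPointFree (φ : D →* D) := by
      intro d hd
      have h2 : ((φ d : D) : H) = d := congrArg Subtype.val hd
      rw [hφ, mul_inv_eq_iff_eq_mul] at h2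
      exact Subtype.ext (hf d d.2 h2)
    refine S0033.result φ hfp t ht ?_
    have hpow : φ ^ t = 1 := by
      have h2 : φ = Subgroup.normalizerMonoidHom D ⟨x, hxn⟩ := rfl
      rw [h2, ← map_pow]
      have h3 : (⟨x, hxn⟩ : Subgroup.normalizer (D : Set H)) ^ t = 1 := by
        apply Subtype.ext
        show x ^ t = 1
        rw [← hx, pow_orderOf_eq_one]
      rw [h3, map_one]
    have hne : φ ≠ 1 := by
      intro h2
      obtain ⟨d, hd1⟩ := Subgroup.ne_bot_iff_exists_ne_one.1 h1
      refine hd1 (hfp d ?_)
      show φ d = d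
      rw [h2]
      rfl
    have : Fact t.Prime := ⟨ht⟩
    exact orderOf_eq_prime hpow hne

theorem zhang_aux (n : ℕ) : ∀ (H : Type u) [Group H] [Finite H] (_ : Nat.card H ≤ n) (_ : Group.IsSolvable H) (k : ℕ)
    (R : Finset ℕ) (_ : ∀ r ∈ R, r.Prime) (_ : ∀ T ⊆ R, Ind H T → T.card ≤ k),
    2 * (R.filter (· ∣ Nat.card H)).card ≤ k * (k + 3) := by
  classical
  induction n with
  | zero =>
    intro H _ _ hc
    have : 0 < Nat.card H := Nat.card_pos
    omega
  | succ n ih =>
    intro H _ _ hc hs k R hR h
    rcases subsingleton_or_nontrivial H with hsub | hnt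
    · have h1 : R.filter (· ∣ Nat.card H) = ∅ := by
        rw [Finset.filter_eq_empty_iff]
        intro r hr hd
        rw [Nat.card_of_subsingleton (1 : H)] at hd
        exact (hR r hr).one_lt.ne' (Nat.dvd_one.1 hd)
      rw [h1]
      simp
    obtain ⟨M, hMn, hMt⟩ := SolvableStructure.MinNonNilpotent.exists_normal_index_prime (G := H)
    set t := M.index with ht
    have hcard : Nat.card M * t = Nat.card H := M.card_mul_index
    have hMlt : Nat.card M ≤ n := by
      have h1 : 0 < Nat.card M := Nat.card_pos
      have h2 := hMt.two_le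
      nlinarith
    have hMs : Group.IsSolvable M := inferInstance
    have hprime : ∀ r ∈ R, r ∣ Nat.card H → r = t ∨ r ∣ Nat.card M := by
      intro r hr hd
      rw [← hcard, (hR r hr).dvd_mul] at hd
      rcases hd with hd | hd
      · exact Or.inr hd
      · exact Or.inl ((Nat.prime_dvd_prime_iff_eq (hR r hr) hMt).1 hd)
    by_cases hcase : t ∈ R ∧ ¬ t ∣ Nat.card M
    · obtain ⟨htR, htM⟩ := hcase
      have : Fact t.Prime := ⟨hMt⟩
      obtain ⟨x, hx⟩ := exists_prime_orderOf_dvd_card' (G := H) t (by rw [← hcard]; exact Dvd.intro_left _ rfl)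
      let C : Subgroup H := M ⊓ Subgroup.centralizer {x}
      have hCM : Nat.card C ∣ Nat.card M := Subgroup.card_dvd_of_le inf_le_left
      let Δ : Finset ℕ := R.filter fun q => q ∣ Nat.card M ∧ ¬ q ∣ Nat.card C
      have hxP : IsPGroup t (Subgroup.zpowers x) := by
        apply IsPGroup.of_card (n := 1)
        rw [Nat.card_zpowers, hx, pow_one]
      have hxM : Subgroup.zpowers x ≤ Subgroup.normalizer (M : Set H) := by
        rw [Subgroup.normalizer_eq_top]
        exact le_top
      obtain ⟨D, hD, hDn⟩ := SignalizersComponents.InvariantHall.exists_invariant_hall hxP htM hxM hMs (Δ : Set ℕ)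
      obtain ⟨hDM, hD1, hD2⟩ := hD
      have hDnil : Group.IsNilpotent D := by
        refine nilpotent_of_fpf hMt hx ?_ ?_
        · intro d hd
          exact (Subgroup.mem_normalizer_iff.1 (hDn (Subgroup.mem_zpowers x)) d).1 hd
        · intro d hd hdx
          by_contra hne
          have h1 : orderOf d ≠ 1 := fun h2 => hne (orderOf_eq_one_iff.1 h2)
          obtain ⟨q, hq, hqd⟩ := Nat.exists_prime_and_dvd h1
          have h2 : q ∣ Nat.card D := hqd.trans (Subgroup.orderOf_dvd_natCard D hd)
          have h3 : d ∈ C := ⟨hDM hd, Subgroup.mem_centralizer_singleton_iff.2 hdx.symm⟩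
          have h4 : q ∣ Nat.card C := hqd.trans (Subgroup.orderOf_dvd_natCard C h3)
          have h5 : q ∈ Δ := Finset.mem_coe.1 (hD1 q hq h2)
          exact (Finset.mem_filter.1 h5).2.2 h4
      -- the first bound
      have hΔ : Δ.card ≤ k := by
        apply h Δ (Finset.filter_subset _ _)
        obtain ⟨g, hg⟩ := ind_of_nilpotent hDnil Δ (by
          intro q hq
          have hq' := Finset.mem_filter.1 hq
          refine ⟨hR q hq'.1, ?_⟩
          have h1 : Nat.card D * D.relIndex M = Nat.card M := by
            rw [← Subgroup.relIndex_bot_left D, ← Subgroup.relIndex_bot_left M]; exact Subgroup.relIndex_mul_relIndex _ _ _ bot_le hDM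
          have h2 := hq'.2.1
          rw [← h1, (hR q hq'.1).dvd_mul] at h2
          rcases h2 with h2 | h2
          · exact h2
          · exact absurd h2 (hD2 q (hR q hq'.1) (Finset.mem_coe.2 hq)))
        refine ⟨g, fun r hr => ?_⟩
        rw [Subgroup.orderOf_coe, hg]
        exact Finset.dvd_prod_of_mem _ hr
      -- the second bound
      have hk1 : 1 ≤ k := by
        have := h {t} (by simpa using htR) ⟨x, fun r hr => by
          rw [Finset.mem_singleton] at hr
          rw [hr, hx]⟩
        simpa using this
      have hCle : Nat.card C ≤ n := (Nat.le_of_dvd Nat.card_pos hCM).trans hMlt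
      have hCs : Group.IsSolvable C := inferInstance
      have h2 := ih C hCle hCs (k - 1) (R.erase t) (fun r hr => hR r (Finset.mem_of_mem_erase hr)) (by
        intro T hT hI
        obtain ⟨c, hc⟩ := hI
        have htT : t ∉ T := fun h3 => Finset.notMem_erase t R (hT h3)
        have hcc : Commute x (c : H) := (Subgroup.mem_centralizer_singleton_iff.1 c.2.2).symm
        have hcop : (orderOf x).Coprime (orderOf (c : H)) := by
          rw [hx, Subgroup.orderOf_coe, hMt.coprime_iff_not_dvd]
          intro h3
          exact htM (h3.trans ((orderOf_dvd_natCard c).trans hCM))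
        have h3 := h (insert t T) (by
          intro r hr
          rcases Finset.mem_insert.1 hr with rfl | hr
          · exact htR
          · exact Finset.mem_of_mem_erase (hT hr)) ⟨x * c, fun r hr => by
            rw [hcc.orderOf_mul_eq_mul_orderOf_of_coprime hcop, hx, Subgroup.orderOf_coe]
            rcases Finset.mem_insert.1 hr with rfl | hr
            · exact Dvd.intro _ rfl
            · exact (hc r hr).mul_left _⟩
        rw [Finset.card_insert_of_notMem htT] at h3
        omega)
      have h3 : R.filter (· ∣ Nat.card H) ⊆ insert t (Δ ∪ (R.erase t).filter (· ∣ Nat.card C)) := by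
        intro r hr
        obtain ⟨hr1, hr2⟩ := Finset.mem_filter.1 hr
        rw [Finset.mem_insert]
        by_cases hrt : r = t
        · exact Or.inl hrt
        right
        rw [Finset.mem_union]
        have h4 := (hprime r hr1 hr2).resolve_left hrt
        by_cases h5 : r ∣ Nat.card C
        · right
          exact Finset.mem_filter.2 ⟨Finset.mem_erase.2 ⟨hrt, hr1⟩, h5⟩
        · left
          exact Finset.mem_filter.2 ⟨hr1, h4, h5⟩
      have h4 := (Finset.card_le_card h3).trans (Finset.card_insert_le _ _)
      have h5 := Finset.card_union_le Δ ((R.erase t).filter (· ∣ Nat.card C))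
      obtain ⟨j, rfl⟩ : ∃ j, k = j + 1 := ⟨k - 1, by omega⟩
      rw [Nat.add_sub_cancel] at h2
      nlinarith
    · have h1 := ih M hMlt hMs k R hR (by
        intro T hT hI
        exact h T hT (hI.of_injective M.subtype M.subtype_injective))
      have h2 : R.filter (· ∣ Nat.card H) ⊆ R.filter (· ∣ Nat.card M) := by
        intro r hr
        obtain ⟨hr1, hr2⟩ := Finset.mem_filter.1 hr
        refine Finset.mem_filter.2 ⟨hr1, ?_⟩
        rcases hprime r hr1 hr2 with h3 | h3
        · by_contra h4
          apply hcase
          rw [← h3]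
          exact ⟨hr1, h4⟩
        · exact h3
      have h3 := Finset.card_le_card h2
      omega

/-- **The number of primes of a solvable group** in terms of the element orders. -/
theorem zhang {H : Type*} [Group H] [Finite H] (hs : Group.IsSolvable H) {k : ℕ} {R : Finset ℕ} (hR : ∀ r ∈ R, r.Prime)
    (h : ∀ T ⊆ R, Ind H T → T.card ≤ k) : 2 * (R.filter (· ∣ Nat.card H)).card ≤ k * (k + 3) :=
  zhang_aux (Nat.card H) H le_rfl hs k R hR h

end Cfsg.Agent.H352.Zhang
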